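import Cfsg.Agent.H14.PSeries
import Cfsg.Agent.H27.Rad
import Cfsg.Agent.H60.Cores
import Cfsg.Agent.H1.Hall

/-!
# `p`-length via chains of normal subgroups

`PLenRel p k M K`: there is a chain of normal subgroups from `M` up to `K` whose factors are
alternately `p'`, `p`, `p'`, …, `p`, `p'` with `k` factors of `p`-type.  The Prelude predicate
`Cfsg.PLengthLE p k G` is equivalent to `PLenRel p k ⊥ ⊤` (`pLengthLE_iff_plenRel`).
Consequences: `p`-length does not grow in quotients and subgroups; the terms of the upper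
`p`-series are characteristic.
-/

set_option autoImplicit false
open Cfsg

namespace Cfsg.Agent.H66

universe u

section Chain

variable {G : Type*} [Group G]

/-- A chain of normal subgroups from `M` to `K` with factors `p'`, then `k` times (`p`, `p'`). -/
def PLenRel (p : ℕ) : ℕ → Subgroup G → Subgroup G → Prop
  | 0, M, K => M.Normal ∧ K.Normal ∧ M ≤ K ∧ (M.relIndex K).Coprime p
  | k + 1, M, K => ∃ A B : Subgroup G, M.Normal ∧ A.Normal ∧ M ≤ A ∧ (M.relIndex A).Coprime p ∧
      A ≤ B ∧ (∃ n : ℕ, A.relIndex B = p ^ n) ∧ PLenRel p k B K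

theorem PLenRel.normal_left {p k : ℕ} {M K : Subgroup G} (h : PLenRel p k M K) : M.Normal := by
  cases k with
  | zero => exact h.1
  | succ k => obtain ⟨A, B, h1, -⟩ := h; exact h1

theorem PLenRel.normal_right {p : ℕ} : ∀ {k : ℕ} {M K : Subgroup G}, PLenRel p k M K → K.Normal
  | 0, _, _, h => h.2.1
  | _ + 1, _, _, ⟨_, _, _, _, _, _, _, _, h⟩ => PLenRel.normal_right h

theorem PLenRel.le {p : ℕ} : ∀ {k : ℕ} {M K : Subgroup G}, PLenRel p k M K → M ≤ K
  | 0, _, _, h => h.2.2.1
  | _ + 1, _, _, ⟨_, _, _, _, h1, _, h2, _, h⟩ => h1.trans (h2.trans (PLenRel.le h))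

/-- Enlarging the bottom `p'`-factor downwards. -/
theorem PLenRel.prepend {p k : ℕ} {M M' K : Subgroup G} (hM : M.Normal) (hle : M ≤ M')
    (hc : (M.relIndex M').Coprime p) (h : PLenRel p k M' K) : PLenRel p k M K := by
  cases k with
  | zero =>
    obtain ⟨-, h2, h3, h4⟩ := h
    refine ⟨hM, h2, hle.trans h3, ?_⟩
    rw [← Subgroup.relIndex_mul_relIndex M M' K hle h3]
    exact Nat.Coprime.mul_left hc h4
  | succ k =>
    obtain ⟨A, B, -, h2, h3, h4, h5⟩ := h
    refine ⟨A, B, hM, h2, hle.trans h3, ?_, h5⟩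
    rw [← Subgroup.relIndex_mul_relIndex M M' A hle h3]
    exact Nat.Coprime.mul_left hc h4

/-- Concatenation of chains: `p`-length is subadditive along a normal series. -/
theorem PLenRel.trans {p : ℕ} : ∀ {a b : ℕ} {M K L : Subgroup G},
    PLenRel p a M K → PLenRel p b K L → PLenRel p (a + b) M L
  | 0, b, _, _, _, h1, h2 => by
    rw [Nat.zero_add]; exact h2.prepend h1.1 h1.2.2.1 h1.2.2.2
  | a + 1, b, _, _, _, ⟨A, B, h1, h2, h3, h4, h5, h6, h7⟩, h2' => by
    rw [Nat.add_right_comm]
    exact ⟨A, B, h1, h2, h3, h4, h5, h6, PLenRel.trans h7 h2'⟩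

theorem relIndex_map_dvd {G' : Type*} [Group G'] (f : G →* G') (M K : Subgroup G) [M.Normal]
    (h : M ≤ K) : (M.map f).relIndex (K.map f) ∣ M.relIndex K := by
  rw [Subgroup.relIndex_map_map]
  have e : K ⊔ f.ker = K ⊔ (M ⊔ f.ker) := by rw [← sup_assoc, sup_eq_left.mpr h]
  rw [e, Subgroup.relIndex_sup_right]
  exact Subgroup.relIndex_dvd_of_le_left _ le_sup_left

theorem relIndex_inf_dvd (M K N : Subgroup G) [M.Normal] (h : M ≤ K) :
    M.relIndex (K ⊓ N) ∣ M.relIndex K := by
  rw [← Subgroup.relIndex_sup_right (H := K ⊓ N) (K := M)]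
  exact Dvd.intro _ (Subgroup.relIndex_mul_relIndex M ((K ⊓ N) ⊔ M) K le_sup_right
    (sup_le inf_le_left h))

/-- Chains map to chains under surjective homomorphisms. -/
theorem PLenRel.map {G' : Type*} [Group G'] (f : G →* G') (hf : Function.Surjective f) {p : ℕ}
    [hp : Fact p.Prime] : ∀ {k : ℕ} {M K : Subgroup G}, PLenRel p k M K →
      PLenRel p k (M.map f) (K.map f)
  | 0, M, K, ⟨h1, h2, h3, h4⟩ =>
    ⟨h1.map f hf, h2.map f hf, Subgroup.map_mono h3,
      Nat.Coprime.coprime_dvd_left (relIndex_map_dvd f M K h3) h4⟩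
  | k + 1, M, K, ⟨A, B, h1, h2, h3, h4, h5, ⟨n, h6⟩, h7⟩ => by
    refine ⟨A.map f, B.map f, h1.map f hf, h2.map f hf, Subgroup.map_mono h3,
      Nat.Coprime.coprime_dvd_left (relIndex_map_dvd f M A h3) h4, Subgroup.map_mono h5, ?_,
      PLenRel.map f hf h7⟩
    have hd := relIndex_map_dvd f A B h5
    rw [h6] at hd
    obtain ⟨k', -, hk'⟩ := (Nat.dvd_prime_pow hp.out).1 hd
    exact ⟨k', hk'⟩

theorem relIndex_comap_comap {G' : Type*} [Group G'] (f : G →* G') (hf : Function.Surjective f)
    (M K : Subgroup G') : (M.comap f).relIndex (K.comap f) = M.relIndex K := by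
  rw [Subgroup.relIndex_comap, Subgroup.map_comap_eq_self_of_surjective hf]

/-- Chains pull back to chains along surjective homomorphisms. -/
theorem PLenRel.comap {G' : Type*} [Group G'] (f : G →* G') (hf : Function.Surjective f) {p : ℕ} :
    ∀ {k : ℕ} {M K : Subgroup G'}, PLenRel p k M K → PLenRel p k (M.comap f) (K.comap f)
  | 0, M, K, ⟨h1, h2, h3, h4⟩ =>
    ⟨h1.comap f, h2.comap f, Subgroup.comap_mono h3, by rwa [relIndex_comap_comap f hf]⟩
  | k + 1, M, K, ⟨A, B, h1, h2, h3, h4, h5, ⟨n, h6⟩, h7⟩ =>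
    ⟨A.comap f, B.comap f, h1.comap f, h2.comap f, Subgroup.comap_mono h3,
      by rwa [relIndex_comap_comap f hf], Subgroup.comap_mono h5,
      ⟨n, by rwa [relIndex_comap_comap f hf]⟩, PLenRel.comap f hf h7⟩

theorem relIndex_subgroupOf_dvd (N M K : Subgroup G) [M.Normal] (h : M ≤ K) :
    (M.subgroupOf N).relIndex (K.subgroupOf N) ∣ M.relIndex K := by
  have h1 : (M.subgroupOf N).relIndex (K.subgroupOf N) = M.relIndex (K ⊓ N) := by
    show (M.comap N.subtype).relIndex (K.subgroupOf N) = _
    rw [Subgroup.relIndex_comap, Subgroup.subgroupOf_map_subtype]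
  rw [h1]
  exact relIndex_inf_dvd M K N h

/-- Chains restrict to chains in any subgroup. -/
theorem PLenRel.subgroupOf (N : Subgroup G) {p : ℕ} [hp : Fact p.Prime] :
    ∀ {k : ℕ} {M K : Subgroup G}, PLenRel p k M K →
      PLenRel p k (M.subgroupOf N) (K.subgroupOf N)
  | 0, M, K, ⟨h1, h2, h3, h4⟩ =>
    ⟨h1.comap _, h2.comap _, Subgroup.comap_mono h3,
      Nat.Coprime.coprime_dvd_left (relIndex_subgroupOf_dvd N M K h3) h4⟩
  | k + 1, M, K, ⟨A, B, h1, h2, h3, h4, h5, ⟨n, h6⟩, h7⟩ => by
    refine ⟨A.subgroupOf N, B.subgroupOf N, h1.comap _, h2.comap _, Subgroup.comap_mono h3,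
      Nat.Coprime.coprime_dvd_left (relIndex_subgroupOf_dvd N M A h3) h4, Subgroup.comap_mono h5,
      ?_, PLenRel.subgroupOf N h7⟩
    have hd := relIndex_subgroupOf_dvd N A B h5
    rw [h6] at hd
    obtain ⟨k', -, hk'⟩ := (Nat.dvd_prime_pow hp.out).1 hd
    exact ⟨k', hk'⟩

end Chain

section Ups

theorem ups_zero (p : ℕ) (G : Type*) [Group G] : (upperPSeries p G 0).1 = ⊥ := by
  rw [upperPSeries]

theorem ups_le_succ (p : ℕ) (G : Type*) [Group G] (n : ℕ) :
    (upperPSeries p G n).1 ≤ (upperPSeries p G (n + 1)).1 := by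
  by_cases hn : Even n
  · rw [H14.ups_succ_of_even p G n hn]; exact H14.le_comap_mk' _ _
  · rw [H14.ups_succ_of_not_even p G n hn]; exact H14.le_comap_mk' _ _

theorem relIndex_comap_mk' {G : Type*} [Group G] (N : Subgroup G) [N.Normal]
    (R : Subgroup (G ⧸ N)) : N.relIndex (R.comap (QuotientGroup.mk' N)) = Nat.card R := by
  have h : N = (⊥ : Subgroup (G ⧸ N)).comap (QuotientGroup.mk' N) := by
    rw [MonoidHom.comap_bot, QuotientGroup.ker_mk']
  calc N.relIndex (R.comap (QuotientGroup.mk' N))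
      = ((⊥ : Subgroup (G ⧸ N)).comap (QuotientGroup.mk' N)).relIndex
          (R.comap (QuotientGroup.mk' N)) :=
        congrArg (fun A : Subgroup G => A.relIndex (R.comap (QuotientGroup.mk' N))) h
    _ = Nat.card R := by
        rw [relIndex_comap_comap _ (QuotientGroup.mk'_surjective N), Subgroup.relIndex_bot_left]

variable (p : ℕ) [hp : Fact p.Prime] {G : Type*} [Group G] [Finite G]

theorem ups_relIndex_even (n : ℕ) (hn : Even n) :
    ((upperPSeries p G n).1.relIndex (upperPSeries p G (n + 1)).1).Coprime p := by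
  rw [H14.ups_succ_of_even p G n hn, relIndex_comap_mk']
  exact H60.card_pPrimeCore_coprime p

theorem ups_relIndex_odd (n : ℕ) (hn : ¬ Even n) :
    ∃ m : ℕ, (upperPSeries p G n).1.relIndex (upperPSeries p G (n + 1)).1 = p ^ m := by
  rw [H14.ups_succ_of_not_even p G n hn, relIndex_comap_mk']
  exact IsPGroup.iff_card.mp (H60.isPGroup_pCore p)

theorem card_map_mk'_dvd (U V W : Subgroup G) [U.Normal] (hVW : V ≤ W) (hVU : V ≤ U) :
    Nat.card (W.map (QuotientGroup.mk' U)) ∣ V.relIndex W := by
  have h1 : Nat.card (W.map (QuotientGroup.mk' U)) = U.relIndex W := by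
    rw [← Subgroup.relIndex_bot_left, ← Subgroup.map_bot (QuotientGroup.mk' U),
      Subgroup.relIndex_map_map, QuotientGroup.ker_mk', bot_sup_eq, Subgroup.relIndex_sup_right]
  rw [h1, ← Subgroup.inf_relIndex_right]
  exact Subgroup.relIndex_dvd_of_le_left W (le_inf hVU hVW)

theorem le_ups_succ_even (n : ℕ) (hn : Even n) (V W : Subgroup G) (hW : W.Normal) (hVW : V ≤ W)
    (hVU : V ≤ (upperPSeries p G n).1) (hc : (V.relIndex W).Coprime p) :
    W ≤ (upperPSeries p G (n + 1)).1 := by
  rw [H14.ups_succ_of_even p G n hn]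
  have hn' : (W.map (QuotientGroup.mk' (upperPSeries p G n).1)).Normal :=
    hW.map _ (QuotientGroup.mk'_surjective _)
  have := H60.le_pPrimeCore hn'
    (Nat.Coprime.coprime_dvd_left (card_map_mk'_dvd _ V W hVW hVU) hc)
  intro w hw
  exact this (Subgroup.mem_map_of_mem _ hw)

theorem le_ups_succ_odd (n : ℕ) (hn : ¬ Even n) (V W : Subgroup G) (hW : W.Normal) (hVW : V ≤ W)
    (hVU : V ≤ (upperPSeries p G n).1) (hc : ∃ m : ℕ, V.relIndex W = p ^ m) :
    W ≤ (upperPSeries p G (n + 1)).1 := by
  rw [H14.ups_succ_of_not_even p G n hn]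
  have hn' : (W.map (QuotientGroup.mk' (upperPSeries p G n).1)).Normal :=
    hW.map _ (QuotientGroup.mk'_surjective _)
  obtain ⟨m, hm⟩ := hc
  have hd := card_map_mk'_dvd (upperPSeries p G n).1 V W hVW hVU
  rw [hm] at hd
  obtain ⟨k', -, hk'⟩ := (Nat.dvd_prime_pow hp.out).1 hd
  have := H60.le_pCore hn' (IsPGroup.of_card hk')
  intro w hw
  exact this (Subgroup.mem_map_of_mem _ hw)

/-- A chain starting inside the `n`-th term (`n` even) of the upper `p`-series ends inside the
`(n + 2k + 1)`-th term. -/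
theorem le_ups_of_plenRel : ∀ (k n : ℕ), Even n → ∀ (M K : Subgroup G),
    M ≤ (upperPSeries p G n).1 → PLenRel p k M K → K ≤ (upperPSeries p G (n + 2 * k + 1)).1
  | 0, n, hn, M, K, hM, ⟨_, hK, hle, hc⟩ => le_ups_succ_even p n hn M K hK hle hM hc
  | k + 1, n, hn, M, K, hM, ⟨A, B, _, hA, hMA, hc, hAB, hpow, hrest⟩ => by
    have hA' : A ≤ (upperPSeries p G (n + 1)).1 := le_ups_succ_even p n hn M A hA hMA hM hc
    have hodd : ¬ Even (n + 1) := by
      rw [Nat.even_add_one]; exact not_not.mpr hn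
    have hB' : B ≤ (upperPSeries p G (n + 1 + 1)).1 :=
      le_ups_succ_odd p (n + 1) hodd A B hrest.normal_left hAB hA' hpow
    have heven : Even (n + 1 + 1) := by
      rw [Nat.even_add_one]; exact hodd
    have := le_ups_of_plenRel k (n + 1 + 1) heven B K hB' hrest
    have e : n + 2 * (k + 1) + 1 = n + 1 + 1 + 2 * k + 1 := by ring
    rw [e]; exact this

/-- The upper `p`-series of `H`, transported along an injective homomorphism under which its
terms stay normal, is a chain. -/
theorem plenRel_ups_map {H : Type*} [Group H] [Finite H] (f : H →* G)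
    (hf : Function.Injective f) (hnorm : ∀ n, ((upperPSeries p H n).1.map f).Normal) :
    ∀ (k n : ℕ), Even n →
      PLenRel p k ((upperPSeries p H n).1.map f) ((upperPSeries p H (n + 2 * k + 1)).1.map f)
  | 0, n, hn => ⟨hnorm n, hnorm (n + 1), Subgroup.map_mono (ups_le_succ p H n), by
      rw [Subgroup.relIndex_map_map_of_injective _ _ hf]; exact ups_relIndex_even p n hn⟩
  | k + 1, n, hn => by
    have hodd : ¬ Even (n + 1) := by
      rw [Nat.even_add_one]; exact not_not.mpr hn
    have heven : Even (n + 1 + 1) := by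
      rw [Nat.even_add_one]; exact hodd
    refine ⟨(upperPSeries p H (n + 1)).1.map f, (upperPSeries p H (n + 1 + 1)).1.map f, hnorm n,
      hnorm (n + 1), Subgroup.map_mono (ups_le_succ p H n), ?_,
      Subgroup.map_mono (ups_le_succ p H (n + 1)), ?_, ?_⟩
    · rw [Subgroup.relIndex_map_map_of_injective _ _ hf]; exact ups_relIndex_even p n hn
    · rw [Subgroup.relIndex_map_map_of_injective _ _ hf]; exact ups_relIndex_odd p (n + 1) hodd
    · have := plenRel_ups_map f hf hnorm k (n + 1 + 1) heven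
      have e : n + 2 * (k + 1) + 1 = n + 1 + 1 + 2 * k + 1 := by ring
      rw [e]; exact this

theorem plenRel_ups (k n : ℕ) (hn : Even n) :
    PLenRel p k (upperPSeries p G n).1 (upperPSeries p G (n + 2 * k + 1)).1 := by
  have := plenRel_ups_map p (MonoidHom.id G) Function.injective_id
    (fun n => by rw [Subgroup.map_id]; infer_instance) k n hn
  rwa [Subgroup.map_id, Subgroup.map_id] at this

/-- `p`-length at most `k` means: there is a normal chain `⊥ … ⊤` with `k` factors of `p`-type
separated (and surrounded) by `p'`-factors. -/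
theorem pLengthLE_iff_plenRel (k : ℕ) :
    PLengthLE p k G ↔ PLenRel p k (⊥ : Subgroup G) ⊤ := by
  constructor
  · intro h
    have := plenRel_ups p (G := G) k 0 (⟨0, rfl⟩ : Even 0)
    have h' : (upperPSeries p G (0 + 2 * k + 1)).1 = ⊤ := by rw [zero_add]; exact h
    rwa [ups_zero, h'] at this
  · intro h
    have := le_ups_of_plenRel p k 0 (⟨0, rfl⟩ : Even 0) ⊥ ⊤ bot_le h
    rw [zero_add] at this
    exact top_le_iff.mp this

/-- `p`-length does not grow under surjective homomorphisms. -/
theorem pLengthLE_of_surjective {G' : Type*} [Group G'] [Finite G'] (f : G →* G')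
    (hf : Function.Surjective f) (k : ℕ) (h : PLengthLE p k G) : PLengthLE p k G' := by
  rw [pLengthLE_iff_plenRel] at h ⊢
  have := h.map f hf
  rwa [Subgroup.map_bot, Subgroup.map_top_of_surjective f hf] at this

/-- `p`-length does not grow in subgroups. -/
theorem pLengthLE_subgroup (N : Subgroup G) (k : ℕ) (h : PLengthLE p k G) : PLengthLE p k N := by
  rw [pLengthLE_iff_plenRel] at h ⊢
  have := h.subgroupOf N
  rwa [Subgroup.bot_subgroupOf, Subgroup.top_subgroupOf] at this

theorem pLengthLE_mono {k k' : ℕ} (hkk : k ≤ k') (h : PLengthLE p k G) : PLengthLE p k' G := by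
  obtain ⟨c, rfl⟩ := Nat.exists_eq_add_of_le hkk
  rw [pLengthLE_iff_plenRel] at h ⊢
  have hc : PLenRel p c (⊤ : Subgroup G) ⊤ := by
    have h1 := plenRel_ups p (G := G) c (2 * (k + 1)) (even_two_mul _)
    have htop : ∀ m, 2 * k + 1 ≤ m → (upperPSeries p G m).1 = ⊤ := by
      intro m hm
      induction m, hm using Nat.le_induction with
      | base => exact (pLengthLE_iff_plenRel p k).mpr h
      | succ m _ ih => exact top_le_iff.mp (ih ▸ ups_le_succ p G m)
    rwa [htop _ (by omega), htop _ (by omega)] at h1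
  exact h.trans hc

/-- The quotient by the second term of the upper `p`-series has `p`-length one less. -/
theorem pLengthLE_quotient_ups_two (m : ℕ) (h : PLengthLE p (m + 1) G) :
    PLengthLE p m (G ⧸ (upperPSeries p G 2).1) := by
  rw [pLengthLE_iff_plenRel]
  have h1 := plenRel_ups p (G := G) m 2 even_two
  have e : 2 + 2 * m + 1 = 2 * (m + 1) + 1 := by ring
  have h' : (upperPSeries p G (2 + 2 * m + 1)).1 = ⊤ := by rw [e]; exact h
  rw [h'] at h1
  have h2 := h1.map (QuotientGroup.mk' (upperPSeries p G 2).1) (QuotientGroup.mk'_surjective _)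
  rwa [QuotientGroup.map_mk'_self, Subgroup.map_top_of_surjective _
    (QuotientGroup.mk'_surjective _)] at h2

/-- The first term `O_{p'}(G)` of the upper `p`-series has order prime to `p`. -/
theorem card_ups_one_coprime : (Nat.card (upperPSeries p G 1).1).Coprime p := by
  have := ups_relIndex_even p (G := G) 0 (⟨0, rfl⟩ : Even 0)
  rwa [ups_zero, Subgroup.relIndex_bot_left] at this

end Ups

section Iso

theorem comap_rad_map_equiv {Q : ∀ (K : Type u) [Group K], Prop} (hQ : H27.IsoInv Q)
    {G G' : Type u} [Group G] [Group G'] (e : G ≃* G') (N : Subgroup G) (N' : Subgroup G')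
    [N.Normal] [N'.Normal] (h : N.map (e : G →* G') = N') :
    ((H27.rad Q (G ⧸ N)).comap (QuotientGroup.mk' N)).map e.toMonoidHom =
      (H27.rad Q (G' ⧸ N')).comap (QuotientGroup.mk' N') := by
  have hr := H27.rad_map_equiv hQ (QuotientGroup.congr N N' e h)
  ext x'
  rw [Subgroup.mem_map, Subgroup.mem_comap, ← hr, Subgroup.mem_map]
  constructor
  · rintro ⟨x, hx, rfl⟩
    exact ⟨QuotientGroup.mk' N x, hx, QuotientGroup.congr_mk' N N' e h x⟩
  · rintro ⟨y, hy, hy'⟩
    refine ⟨e.symm x', ?_, e.apply_symm_apply x'⟩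
    have h1 : QuotientGroup.congr N N' e h (QuotientGroup.mk' N (e.symm x')) =
        QuotientGroup.congr N N' e h y := by
      rw [QuotientGroup.congr_mk', e.apply_symm_apply]; exact hy'.symm
    have h2 := (QuotientGroup.congr N N' e h).injective h1
    rw [Subgroup.mem_comap, h2]; exact hy

/-- The upper `p`-series is invariant under isomorphisms. -/
theorem ups_map_equiv (p : ℕ) {G G' : Type u} [Group G] [Group G'] (e : G ≃* G') :
    ∀ n, (upperPSeries p G n).1.map e.toMonoidHom = (upperPSeries p G' n).1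
  | 0 => by rw [ups_zero, ups_zero, Subgroup.map_bot]
  | n + 1 => by
    have ih := ups_map_equiv p e n
    by_cases hn : Even n
    · rw [H14.ups_succ_of_even p G n hn, H14.ups_succ_of_even p G' n hn]
      exact comap_rad_map_equiv (H27.isoInv_coprime p) e _ _ ih
    · rw [H14.ups_succ_of_not_even p G n hn, H14.ups_succ_of_not_even p G' n hn]
      exact comap_rad_map_equiv (H27.isoInv_pGroup p) e _ _ ih

theorem ups_characteristic (p : ℕ) (G : Type u) [Group G] (n : ℕ) :
    (upperPSeries p G n).1.Characteristic :=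
  Subgroup.characteristic_iff_map_eq.mpr (fun ϕ => ups_map_equiv p ϕ n)

theorem ups_map_subtype_normal (p : ℕ) {G : Type u} [Group G] (N : Subgroup G) [N.Normal]
    (n : ℕ) : ((upperPSeries p N n).1.map N.subtype).Normal := by
  have := ups_characteristic p N n
  exact ConjAct.normal_of_characteristic_of_normal

/-- If a normal subgroup `N` of `G` has `p`-length at most `k`, then there is a chain of normal
subgroups of `G` from `⊥` to `N` with `k` factors of `p`-type. -/
theorem plenRel_of_pLengthLE_normal (p : ℕ) [Fact p.Prime] {G : Type u} [Group G] [Finite G]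
    (N : Subgroup G) [N.Normal] (k : ℕ) (h : PLengthLE p k N) :
    PLenRel p k (⊥ : Subgroup G) N := by
  have h1 := plenRel_ups_map p N.subtype N.subtype_injective (ups_map_subtype_normal p N) k 0
    (⟨0, rfl⟩ : Even 0)
  have h' : (upperPSeries p N (0 + 2 * k + 1)).1 = ⊤ := by rw [zero_add]; exact h
  rwa [h', ups_zero, Subgroup.map_bot, ← MonoidHom.range_eq_map, Subgroup.range_subtype] at h1

end Iso

end Cfsg.Agent.H66
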