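import Cfsg.Agent.H66.PLength
import Cfsg.Agent.H80.SylowNorm
import Cfsg.Agent.H76.FrattiniAut
import Cfsg.Agent.H3.PGroup
import Cfsg.Agent.H14.PLength
import Cfsg.Agent.S4227

/-!
# Hall–Higman Theorem B, the abelian case, by a Frobenius-sum trick

* `frob_sum`: if `x` normalises a finite subgroup `D`, all nontrivial powers `x^i` (`0 < i < k`)
  act fixed-point-freely on `D`, and `∑_{i<k} θ(x^i) = 0` for a monoid hom `θ` into a ring, then
  `∑_{d ∈ D} θ d = |D|`.
* `centralizer_pPrimeCore_le`: dual Hall–Higman 1.2.3.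
* `exists_frob_subgroup`: in a `p`-soluble group with `O_p = 1` and abelian Sylow `q`-subgroups
  (`q ≠ p`) every element of order `p^(m+1)` acts "Frobeniusly" on a nontrivial `p'`-subgroup.
* `theta_faithful`: `G/O_p(G)` acts faithfully on `O_p(G)/O_p(G)'` when `C_G(O_p(G)) ≤ O_p(G)`.
* `exists_pow_ne_one`, `relSeries_eq_top_of_exp`: the `p`-length bound by the exponent.
-/

set_option autoImplicit false
set_option linter.style.haveILetI false
set_option linter.unusedVariables false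
open Cfsg
open scoped Pointwise

namespace Cfsg.Agent.H66

section FrobSum

variable {H : Type*} [Group H]

theorem conj_pow_mem (D : Subgroup H) (x : H) (hxD : ∀ d ∈ D, x * d * x⁻¹ ∈ D) :
    ∀ (i : ℕ), ∀ d ∈ D, x ^ i * d * (x ^ i)⁻¹ ∈ D
  | 0, d, hd => by simpa using hd
  | i + 1, d, hd => by
    have h1 := conj_pow_mem D x hxD i d hd
    have h2 := hxD _ h1
    have e : x ^ (i + 1) * d * (x ^ (i + 1))⁻¹ = x * (x ^ i * d * (x ^ i)⁻¹) * x⁻¹ := by
      rw [pow_succ']; group
    rw [e]; exact h2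

/-- The Frobenius-sum identity. -/
theorem frob_sum {R : Type*} [Ring R] (θ : H →* R)
    (D : Subgroup H) [Fintype D] (x : H) (k : ℕ) (hk : 0 < k)
    (hxD : ∀ d ∈ D, x * d * x⁻¹ ∈ D)
    (hfree : ∀ i, 0 < i → i < k → ∀ d ∈ D, x ^ i * d = d * x ^ i → d = 1)
    (hN : ∑ i ∈ Finset.range k, θ (x ^ i) = 0) :
    ∑ d : D, θ (d : H) = (Fintype.card D : R) := by
  classical
  set S : R := ∑ d : D, θ (d : H) with hS
  have key : ∀ i, 0 < i → i < k → ∑ d : D, θ ((d : H) * x ^ i * (d : H)⁻¹) = S * θ (x ^ i) := by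
    intro i hi0 hik
    have hmem : ∀ d : D, (d : H) * x ^ i * (d : H)⁻¹ * (x ^ i)⁻¹ ∈ D := by
      intro d
      have h1 := conj_pow_mem D x hxD i _ (D.inv_mem d.2)
      have := D.mul_mem d.2 h1
      simpa [mul_assoc] using this
    let f : D → D := fun d => ⟨(d : H) * x ^ i * (d : H)⁻¹ * (x ^ i)⁻¹, hmem d⟩
    have hinj : Function.Injective f := by
      intro d d' hdd
      have h1 : (d : H) * x ^ i * (d : H)⁻¹ * (x ^ i)⁻¹ = (d' : H) * x ^ i * (d' : H)⁻¹ * (x ^ i)⁻¹ :=
        congrArg Subtype.val hdd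
      have h2 : (d : H) * x ^ i * (d : H)⁻¹ = (d' : H) * x ^ i * (d' : H)⁻¹ := mul_right_cancel h1
      have h3 : x ^ i * ((d' : H)⁻¹ * (d : H)) = ((d' : H)⁻¹ * (d : H)) * x ^ i := by
        have : x ^ i = (d : H)⁻¹ * ((d' : H) * x ^ i * (d' : H)⁻¹) * (d : H) := by
          rw [← h2]; group
        calc x ^ i * ((d' : H)⁻¹ * (d : H))
            = (d' : H)⁻¹ * ((d' : H) * x ^ i * (d' : H)⁻¹) * (d : H) := by group
          _ = (d' : H)⁻¹ * ((d : H) * x ^ i * (d : H)⁻¹) * (d : H) := by rw [h2]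
          _ = ((d' : H)⁻¹ * (d : H)) * x ^ i := by group
      have h4 := hfree i hi0 hik _ (D.mul_mem (D.inv_mem d'.2) d.2) h3
      have h5 : (d : H) = (d' : H) := by
        have := congrArg (fun t => (d' : H) * t) h4
        simpa using this
      exact Subtype.ext h5
    have hbij : Function.Bijective f := ⟨hinj, Finite.surjective_of_injective hinj⟩
    have h1 : ∀ d : D, θ ((d : H) * x ^ i * (d : H)⁻¹) = θ ((f d : D) : H) * θ (x ^ i) := by
      intro d
      rw [← map_mul]
      congr 1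
      show _ = (d : H) * x ^ i * (d : H)⁻¹ * (x ^ i)⁻¹ * x ^ i
      group
    rw [Finset.sum_congr rfl (fun d _ => h1 d), ← Finset.sum_mul]
    congr 1
    exact Function.Bijective.sum_comp hbij (fun d : D => θ (d : H))
  have h0 : ∑ d : D, ∑ i ∈ Finset.range k, θ ((d : H) * x ^ i * (d : H)⁻¹) = 0 := by
    apply Finset.sum_eq_zero
    intro d _
    have : ∑ i ∈ Finset.range k, θ ((d : H) * x ^ i * (d : H)⁻¹) =
        θ (d : H) * (∑ i ∈ Finset.range k, θ (x ^ i)) * θ ((d : H)⁻¹) := by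
      rw [Finset.mul_sum, Finset.sum_mul]
      apply Finset.sum_congr rfl
      intro i _
      rw [map_mul, map_mul]
    rw [this, hN, mul_zero, zero_mul]
  rw [Finset.sum_comm] at h0
  obtain ⟨k', rfl⟩ : ∃ k', k = k' + 1 := ⟨k - 1, by omega⟩
  rw [Finset.sum_range_succ'] at h0 hN
  have h1 : ∑ i ∈ Finset.range k', ∑ d : D, θ ((d : H) * x ^ (i + 1) * (d : H)⁻¹) =
      S * ∑ i ∈ Finset.range k', θ (x ^ (i + 1)) := by
    rw [Finset.mul_sum]
    apply Finset.sum_congr rfl
    intro i hi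
    exact key (i + 1) (Nat.succ_pos i) (by have := Finset.mem_range.mp hi; omega)
  rw [h1] at h0
  have h2 : ∑ d : D, θ ((d : H) * x ^ 0 * (d : H)⁻¹) = (Fintype.card D : R) := by
    simp
  rw [h2] at h0
  have h3 : ∑ i ∈ Finset.range k', θ (x ^ (i + 1)) = -1 := by
    have : θ (x ^ 0) = 1 := by simp
    rw [this] at hN
    exact eq_neg_of_add_eq_zero_left hN
  rw [h3, mul_neg, mul_one] at h0
  have h4 : (Fintype.card D : R) = S := by
    rw [← sub_eq_zero, sub_eq_add_neg, add_comm]; exact h0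
  exact h4.symm

end FrobSum

section DualHH

variable {G : Type*} [Group G]

/-- In a finite group with `O_p = 1`, a `p`-subgroup of a normal subgroup `N` that is
normalized by `N` is trivial. -/
theorem subnormal_pgroup_eq_bot [Finite G] (p : ℕ) [Fact p.Prime] (hcore : pCore p G = ⊥)
    (N : Subgroup G) [hN : N.Normal] (T : Subgroup G) (hT : T ≤ N)
    (hTn : N ≤ Subgroup.normalizer (T : Set G)) (hTc : IsPGroup p T) : T = ⊥ := by
  have hp : p.Prime := Fact.out
  obtain ⟨T₀, ⟨hT₀le, hT₀n, hT₀c⟩, hmax⟩ := H80.exists_max_card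
    {T : Subgroup G | T ≤ N ∧ N ≤ Subgroup.normalizer (T : Set G) ∧ IsPGroup p T}
    ⟨⊥, bot_le, by rw [Subgroup.normalizer_eq_top]; exact le_top, IsPGroup.of_bot⟩
  have key : ∀ T : Subgroup G, T ≤ N → N ≤ Subgroup.normalizer (T : Set G) →
      IsPGroup p T → T ≤ T₀ := by
    intro T hT hTn hTc
    have h2 : IsPGroup p (T ⊔ T₀ : Subgroup G) := by
      obtain ⟨a, ha⟩ := IsPGroup.iff_card.mp hTc
      obtain ⟨b, hb⟩ := IsPGroup.iff_card.mp hT₀c
      have hd := H80.card_sup_dvd_mul T T₀ (hT.trans hT₀n)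
      rw [ha, hb, ← pow_add] at hd
      obtain ⟨c, _, hc⟩ := (Nat.dvd_prime_pow hp).mp hd
      exact IsPGroup.of_card hc
    have h1 : N ≤ Subgroup.normalizer ((T ⊔ T₀ : Subgroup G) : Set G) :=
      (le_inf hTn hT₀n).trans (Subgroup.normalizer_inf_normalizer_le_normalizer_sup T T₀)
    have h3 := hmax (T ⊔ T₀) ⟨sup_le hT hT₀le, h1, h2⟩
    have h4 : T₀ = T ⊔ T₀ := Subgroup.eq_of_le_of_card_ge le_sup_right h3
    rw [h4]; exact le_sup_left
  have hnorm : T₀.Normal := by
    constructor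
    intro n hn g
    have h1 : MulAut.conj g • T₀ ≤ T₀ :=
      key _ (H80.conj_smul_le_normal N g T₀ hT₀le) (H80.normal_le_normalizer_conj_smul N g T₀ hT₀n)
        (by
          obtain ⟨b, hb⟩ := IsPGroup.iff_card.mp hT₀c
          exact IsPGroup.of_card (n := b) (by rw [H80.card_conj_smul]; exact hb))
    exact h1 (H80.conj_mem_conj_smul g n T₀ hn)
  have h5 : T₀ ≤ pCore p G := le_sSup ⟨hnorm, hT₀c⟩
  rw [hcore] at h5
  exact eq_bot_iff.mpr ((key T hT hTn hTc).trans h5)

/-- Dual Hall–Higman Lemma 1.2.3: in a finite `p`-solvable group with `O_p = 1`, the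
centralizer of `O_{p'}` lies in `O_{p'}`. -/
theorem centralizer_pPrimeCore_le [Finite G] (p : ℕ) [Fact p.Prime] (hsolv : IsPSolvable p G)
    (hcore : pCore p G = ⊥) :
    Subgroup.centralizer ((pPrimeCore p G : Subgroup G) : Set G) ≤ pPrimeCore p G := by
  have hp : p.Prime := Fact.out
  obtain ⟨n, Hs, h0, hlast, hmono, hnorm, hfac⟩ := hsolv
  have hUn : (pPrimeCore p G).Normal := inferInstance
  have hCn : (Subgroup.centralizer ((pPrimeCore p G : Subgroup G) : Set G)).Normal := inferInstance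
  have hNc : (Nat.card (pPrimeCore p G)).Coprime p := H14.pPrimeCore_coprime p G
  have key : ∀ i : Fin (n + 1),
      Subgroup.centralizer ((pPrimeCore p G : Subgroup G) : Set G) ⊓ Hs i ≤ pPrimeCore p G := by
    intro i
    induction i using Fin.induction with
    | zero => rw [h0]; simp
    | succ i ih =>
      set E := Subgroup.centralizer ((pPrimeCore p G : Subgroup G) : Set G) ⊓ Hs i.castSucc with hE
      set D := Subgroup.centralizer ((pPrimeCore p G : Subgroup G) : Set G) ⊓ Hs i.succ with hD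
      have hle : Hs i.castSucc ≤ Hs i.succ := hmono (Fin.castSucc_lt_succ).le
      have hED : E ≤ D := inf_le_inf_left _ hle
      haveI := hnorm i.succ
      haveI := hnorm i.castSucc
      have hDn : D.Normal := inferInstance
      have hEeq : E = Hs i.castSucc ⊓ D := by
        exact le_antisymm (le_inf inf_le_right hED) (le_inf (inf_le_right.trans inf_le_left) inf_le_left)
      have hr : E.relIndex D ∣ (Hs i.castSucc).relIndex (Hs i.succ) := by
        rw [hEeq, Subgroup.inf_relIndex_right]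
        exact H80.relIndex_dvd_relIndex_of_normal _ inf_le_right
      have hcard : Nat.card D = Nat.card E * E.relIndex D := H80.card_eq_card_mul_relIndex hED
      have hEc : (Nat.card E).Coprime p :=
        Nat.Coprime.coprime_dvd_left (Subgroup.card_dvd_of_le ih) hNc
      rcases hfac i with ⟨m, hm⟩ | hcop
      · rw [hm] at hr
        obtain ⟨j, _, hj⟩ := (Nat.dvd_prime_pow hp).mp hr
        -- E is central in D
        have hcent : ∀ e ∈ E.subgroupOf D, ∀ g : D, g * e = e * g := by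
          intro e he g
          have h1 : (e : G) ∈ pPrimeCore p G := ih he
          have h2 : (g : G) ∈ Subgroup.centralizer ((pPrimeCore p G : Subgroup G) : Set G) := g.2.1
          have := Subgroup.mem_centralizer_iff.mp h2 (e : G) h1
          apply Subtype.ext
          simp only [Subgroup.coe_mul]
          exact this.symm
        haveI hE'n : (E.subgroupOf D).Normal := by
          constructor
          intro e he g
          rw [hcent e he g]
          simpa using he
        have hcE' : Nat.card (E.subgroupOf D) = Nat.card E :=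
          Nat.card_congr (Subgroup.subgroupOfEquivOfLe hED).toEquiv
        have hcop2 : Nat.Coprime (Nat.card (E.subgroupOf D)) (E.subgroupOf D).index := by
          rw [hcE']
          show (Nat.card E).Coprime (E.relIndex D)
          rw [hj]
          exact Nat.Coprime.pow_right j hEc
        obtain ⟨L', hL'⟩ := Subgroup.exists_right_complement'_of_coprime hcop2
        haveI hL'n : L'.Normal := H80.normal_of_isComplement'_central _ L' hcent hL'
        have hcL' : Nat.card L' = E.relIndex D := (hL'.symm.index_eq_card).symm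
        have hLbot : L'.map D.subtype = ⊥ := by
          apply subnormal_pgroup_eq_bot p hcore D (L'.map D.subtype) (Subgroup.map_subtype_le L')
            (H80.le_normalizer_map_subtype D L')
          apply IsPGroup.of_card (n := j)
          rw [Subgroup.card_map_of_injective D.subtype_injective, hcL', hj]
        have hL'bot : L' = ⊥ := by
          rwa [Subgroup.map_eq_bot_iff_of_injective _ D.subtype_injective] at hLbot
        have hr1 : E.relIndex D = 1 := by
          rw [← hcL', hL'bot]; simp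
        exact (Subgroup.relIndex_eq_one.mp hr1).trans ih
      · have hcop' : (E.relIndex D).Coprime p := Nat.Coprime.coprime_dvd_left hr hcop
        have : (Nat.card D).Coprime p := by
          rw [hcard]; exact Nat.Coprime.mul_left hEc hcop'
        exact H14.le_pPrimeCore hDn this
  have := key (Fin.last n)
  rwa [hlast, inf_top_eq] at this

end DualHH

section FrobSubgroup

/-- In a commutative group with an endomorphism `α` of order dividing `p`, a fixed point of the
form `a⁻¹ α(a)` has order dividing `p`. -/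
theorem fixed_of_delta {A : Type*} [CommGroup A] (α : A →* A) (p : ℕ) (hα : ∀ a, (α^[p]) a = a)
    (a : A) (hfix : α (a⁻¹ * α a) = a⁻¹ * α a) : (a⁻¹ * α a) ^ p = 1 := by
  set ν : A → A := fun b => ∏ j ∈ Finset.range p, (α^[j]) b with hν
  have h1 : ∀ b, ν (α b) = ν b := by
    intro b
    have e1 : ν (α b) = ∏ j ∈ Finset.range p, (α^[j + 1]) b := by
      apply Finset.prod_congr rfl
      intro j _
      rw [Function.iterate_succ_apply]
    have e2 : (∏ j ∈ Finset.range p, (α^[j + 1]) b) * (α^[0]) b =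
        (∏ j ∈ Finset.range p, (α^[j]) b) * (α^[p]) b :=
      (Finset.prod_range_succ' (fun j => (α^[j]) b) p).symm.trans
        (Finset.prod_range_succ (fun j => (α^[j]) b) p)
    rw [hα b, Function.iterate_zero, id] at e2
    rw [e1]
    exact mul_right_cancel e2
  have h2 : ∀ b c, ν (b * c) = ν b * ν c := by
    intro b c
    simp only [hν, ← Finset.prod_mul_distrib]
    apply Finset.prod_congr rfl
    intro j _
    exact iterate_map_mul α j b c
  have h2' : ∀ b, ν b⁻¹ = (ν b)⁻¹ := by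
    intro b
    simp only [hν, ← Finset.prod_inv_distrib]
    apply Finset.prod_congr rfl
    intro j _
    exact iterate_map_inv α j b
  have h3 : ν (a⁻¹ * α a) = 1 := by
    rw [h2, h2', h1, inv_mul_cancel]
  have h4 : ν (a⁻¹ * α a) = (a⁻¹ * α a) ^ p := by
    simp only [hν]
    rw [Finset.prod_congr rfl (fun j _ => Function.iterate_fixed hfix j), Finset.prod_const,
      Finset.card_range]
  rw [← h4, h3]

theorem commute_pow_prime_pow {H : Type*} [Group H] {p : ℕ} (hp : p.Prime) (x d : H) (m i : ℕ)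
    (hx1 : x ^ p ^ (m + 1) = 1) (hi0 : 0 < i) (hik : i < p ^ (m + 1))
    (h : Commute (x ^ i) d) : Commute (x ^ p ^ m) d := by
  obtain ⟨a, ha, hg⟩ := (Nat.dvd_prime_pow hp).mp (Nat.gcd_dvd_right i (p ^ (m + 1)))
  have ham : a ≤ m := by
    by_contra hcon
    have ha1 : a = m + 1 := by omega
    rw [ha1] at hg
    have : p ^ (m + 1) ∣ i := hg ▸ Nat.gcd_dvd_left i (p ^ (m + 1))
    have := Nat.le_of_dvd hi0 this
    omega
  have h1 : Commute (x ^ p ^ a) d := by
    have e : (x ^ p ^ a) = (x ^ i) ^ (Nat.gcdA i (p ^ (m + 1))) := by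
      have h2 := Nat.gcd_eq_gcd_ab i (p ^ (m + 1))
      rw [hg] at h2
      have h3 : x ^ ((p ^ a : ℕ) : ℤ) =
          x ^ ((i : ℤ) * Nat.gcdA i (p ^ (m + 1)) + ((p ^ (m + 1) : ℕ) : ℤ) * Nat.gcdB i (p ^ (m + 1))) := by
        rw [h2]
      rw [zpow_natCast, zpow_add, zpow_mul, zpow_mul, zpow_natCast, zpow_natCast, hx1, one_zpow,
        mul_one] at h3
      exact h3
    rw [e]
    exact h.zpow_left _
  have e2 : x ^ p ^ m = (x ^ p ^ a) ^ p ^ (m - a) := by
    rw [← pow_mul, ← pow_add]; congr 2; omega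
  rw [e2]
  exact h1.pow_left _

/-- In a `p`-soluble group with `O_p = 1` and abelian Sylow `q`-subgroups for `q ≠ p`, an element
`x` of order `p^(m+1)` normalises a nontrivial `p'`-subgroup `D` on which every nontrivial power
of `x` acts fixed-point-freely. -/
theorem exists_frob_subgroup {H : Type*} [Group H] [Finite H] {p : ℕ} [Fact p.Prime]
    (hsol : IsPSolvable p H) (hOp : pCore p H = ⊥)
    (hab : ∀ (q : ℕ) [Fact q.Prime], q ≠ p → ∀ Q : Sylow q H, IsMulCommutative (Q : Subgroup H))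
    (x : H) (m : ℕ) (hx1 : x ^ p ^ (m + 1) = 1) (hx2 : x ^ p ^ m ≠ 1) :
    ∃ D : Subgroup H, D ≠ ⊥ ∧ (Nat.card D).Coprime p ∧ (∀ d ∈ D, x * d * x⁻¹ ∈ D) ∧
      ∀ i, 0 < i → i < p ^ (m + 1) → ∀ d ∈ D, x ^ i * d = d * x ^ i → d = 1 := by
  have hp : p.Prime := Fact.out
  obtain ⟨y, hy⟩ : ∃ y, y = x ^ p ^ m := ⟨_, rfl⟩
  have hyp : y ^ p = 1 := by rw [hy, ← pow_mul, ← pow_succ]; exact hx1
  have hy1 : y ≠ 1 := by rw [hy]; exact hx2
  have hyo : orderOf y = p := orderOf_eq_prime hyp hy1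
  have hxy : Commute x y := by rw [hy]; exact (Commute.refl x).pow_right _
  have hyx : y ∈ Subgroup.zpowers x := by rw [hy]; exact Subgroup.pow_mem _ (Subgroup.mem_zpowers x) _
  obtain ⟨N, hN⟩ : ∃ N, N = pPrimeCore p H := ⟨_, rfl⟩
  haveI hNn : N.Normal := by rw [hN]; infer_instance
  have hNc : (Nat.card N).Coprime p := by rw [hN]; exact H14.pPrimeCore_coprime p H
  have hyN : y ∉ N := by
    intro h
    have h1 : orderOf y ∣ Nat.card N := by
      have := orderOf_dvd_natCard (⟨y, h⟩ : N)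
      rwa [Subgroup.orderOf_mk] at this
    rw [hyo] at h1
    exact (Nat.Prime.coprime_iff_not_dvd hp).mp hNc.symm h1
  have hcent := centralizer_pPrimeCore_le p hsol hOp
  rw [← hN] at hcent
  have hyC : y ∉ Subgroup.centralizer (N : Set H) := fun h => hyN (hcent h)
  have hZ : IsPGroup p (Subgroup.zpowers x) := by
    apply IsPGroup.of_card (n := m + 1)
    rw [Nat.card_zpowers]; exact orderOf_eq_prime_pow hx2 hx1
  -- find the prime `q`
  have hex : ∃ (q : ℕ) (_ : Fact q.Prime) (S : Sylow q N),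
      Subgroup.zpowers x ≤
        Subgroup.normalizer (((S : Subgroup N).map N.subtype : Subgroup H) : Set H) ∧
      ∃ a ∈ (S : Subgroup N).map N.subtype, y * a ≠ a * y := by
    by_contra hcon
    push Not at hcon
    apply hyC
    have hCN : N ⊓ Subgroup.centralizer ({y} : Set H) = N := by
      apply Subgroup.eq_of_le_of_card_ge inf_le_left
      apply Nat.le_of_dvd Nat.card_pos
      rw [← Nat.factorization_prime_le_iff_dvd (Nat.card_pos.ne') (Nat.card_pos.ne')]
      intro q hq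
      haveI : Fact q.Prime := ⟨hq⟩
      obtain ⟨S, hS⟩ := H80.exists_sylow_normalized q p N hNc (Subgroup.zpowers x) hZ
      have h1 : (S : Subgroup N).map N.subtype ≤ N ⊓ Subgroup.centralizer ({y} : Set H) := by
        intro a ha
        refine Subgroup.mem_inf.mpr ⟨Subgroup.map_subtype_le _ ha, ?_⟩
        rw [Subgroup.mem_centralizer_iff]
        intro z hz
        rw [Set.mem_singleton_iff] at hz
        rw [hz]
        exact hcon q ‹_› S hS a ha
      have h2 := Subgroup.card_dvd_of_le h1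
      rw [Subgroup.card_map_of_injective N.subtype_injective, Sylow.card_eq_multiplicity] at h2
      exact (Nat.Prime.pow_dvd_iff_le_factorization hq (Nat.card_pos.ne')).mp h2
    rw [Subgroup.mem_centralizer_iff]
    intro n hn
    have h3 : n ∈ N ⊓ Subgroup.centralizer ({y} : Set H) := by rw [hCN]; exact hn
    exact (Subgroup.mem_centralizer_iff.mp h3.2 y rfl).symm
  obtain ⟨q, hqF, S, hSx, a, haS, hya⟩ := hex
  have hq : q.Prime := hqF.out
  obtain ⟨Q, hQ⟩ : ∃ Q : Subgroup H, Q = (S : Subgroup N).map N.subtype := ⟨_, rfl⟩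
  rw [← hQ] at hSx haS
  have hQN : Q ≤ N := by rw [hQ]; exact Subgroup.map_subtype_le _
  have hQq : IsPGroup q Q := by rw [hQ]; exact S.isPGroup'.map N.subtype
  have hxQ : ∀ b ∈ Q, x * b * x⁻¹ ∈ Q := fun b hb =>
    (Subgroup.mem_normalizer_iff.mp (hSx (Subgroup.mem_zpowers x)) b).mp hb
  have hyQ : ∀ b ∈ Q, y * b * y⁻¹ ∈ Q := fun b hb =>
    (Subgroup.mem_normalizer_iff.mp (hSx hyx) b).mp hb
  have hQc : (Nat.card Q).Coprime p :=
    Nat.Coprime.coprime_dvd_left (Subgroup.card_dvd_of_le hQN) hNc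
  have hqp : q ≠ p := by
    intro hqp
    obtain ⟨k, hk⟩ := IsPGroup.iff_card.mp hQq
    rw [hk, hqp] at hQc
    have hk0 : k = 0 := by
      by_contra hk0
      exact hp.one_lt.ne' ((Nat.coprime_pow_left_iff (Nat.pos_of_ne_zero hk0) p p).mp hQc |>.symm ▸
        (Nat.coprime_self p).mp ((Nat.coprime_pow_left_iff (Nat.pos_of_ne_zero hk0) p p).mp hQc))
    rw [hk0, pow_zero] at hk
    have hQbot : Q = ⊥ := Subgroup.card_eq_one.mp hk
    rw [hQbot, Subgroup.mem_bot] at haS
    rw [haS] at hya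
    simp at hya
  obtain ⟨T, hT⟩ := hQq.exists_le_sylow
  haveI := hab q hqp T
  have hcomm : ∀ b ∈ Q, ∀ c ∈ Q, b * c = c * b := fun b hb c hc =>
    setLike_mul_comm (hT hb) (hT hc)
  letI instC : CommGroup Q :=
    { (inferInstance : Group Q) with
      mul_comm := fun b c => Subtype.ext (hcomm b b.2 c c.2) }
  let α : Q →* Q := MonoidHom.mk' (fun b => ⟨y * b * y⁻¹, hyQ b b.2⟩)
    (by intro b c; apply Subtype.ext; simp [mul_assoc])
  have hα : ∀ b : Q, (α^[p]) b = b := by
    have hit : ∀ (j : ℕ) (b : Q), ((α^[j]) b : H) = y ^ j * b * (y ^ j)⁻¹ := by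
      intro j
      induction j with
      | zero => intro b; simp
      | succ j ih =>
        intro b
        rw [Function.iterate_succ_apply', pow_succ']
        show y * ((α^[j]) b : H) * y⁻¹ = _
        rw [ih]; group
    intro b
    apply Subtype.ext
    rw [hit, hyp]; simp
  let δ : Q → Q := fun b => b⁻¹ * α b
  have hδmul : ∀ b c : Q, δ (b * c) = δ b * δ c := by
    intro b c
    show (b * c)⁻¹ * α (b * c) = b⁻¹ * α b * (c⁻¹ * α c)
    rw [map_mul, mul_inv]
    exact mul_mul_mul_comm _ _ _ _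
  have hδone : δ 1 = 1 := by
    show (1 : Q)⁻¹ * α 1 = 1
    rw [map_one, inv_one, one_mul]
  have hδinv : ∀ b : Q, δ b⁻¹ = (δ b)⁻¹ := by
    intro b
    show (b⁻¹)⁻¹ * α b⁻¹ = (b⁻¹ * α b)⁻¹
    rw [map_inv, mul_inv]
  let D : Subgroup H :=
    { carrier := {d | ∃ b : Q, d = (δ b : H)}
      mul_mem' := by
        rintro _ _ ⟨b, rfl⟩ ⟨c, rfl⟩
        exact ⟨b * c, by rw [hδmul]; rfl⟩
      one_mem' := ⟨1, by rw [hδone]; rfl⟩
      inv_mem' := by
        rintro _ ⟨b, rfl⟩
        exact ⟨b⁻¹, by rw [hδinv]; rfl⟩ }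
  have hDQ : D ≤ Q := by
    rintro _ ⟨b, rfl⟩
    exact (δ b).2
  refine ⟨D, ?_, ?_, ?_, ?_⟩
  · intro hbot
    have h1 : ((δ ⟨a, haS⟩ : Q) : H) ∈ D := ⟨⟨a, haS⟩, rfl⟩
    rw [hbot, Subgroup.mem_bot] at h1
    have h2 : a⁻¹ * (y * a * y⁻¹) = 1 := h1
    apply hya
    have h3 : y * a * y⁻¹ = a := by
      have := congrArg (fun t => a * t) h2
      simpa using this
    calc y * a = y * a * y⁻¹ * y := by group
      _ = a * y := by rw [h3]
  · exact Nat.Coprime.coprime_dvd_left (Subgroup.card_dvd_of_le (hDQ.trans hQN)) hNc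
  · rintro _ ⟨b, rfl⟩
    refine ⟨⟨x * b * x⁻¹, hxQ b b.2⟩, ?_⟩
    show x * ((b : H)⁻¹ * (y * b * y⁻¹)) * x⁻¹ = (x * b * x⁻¹)⁻¹ * (y * (x * b * x⁻¹) * y⁻¹)
    have e1 : y * x = x * y := hxy.eq.symm
    have e2 : x⁻¹ * y⁻¹ = y⁻¹ * x⁻¹ := by
      rw [← mul_inv_rev, ← mul_inv_rev, e1]
    calc x * ((b : H)⁻¹ * (y * b * y⁻¹)) * x⁻¹
        = x * (b : H)⁻¹ * x⁻¹ * (x * y) * b * (y⁻¹ * x⁻¹) := by group
      _ = x * (b : H)⁻¹ * x⁻¹ * (y * x) * b * (x⁻¹ * y⁻¹) := by rw [e1, e2]
      _ = (x * b * x⁻¹)⁻¹ * (y * (x * b * x⁻¹) * y⁻¹) := by group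
  · rintro i hi0 hik _ ⟨b, rfl⟩ hcom
    have h1 : Commute (x ^ p ^ m) ((δ b : Q) : H) :=
      commute_pow_prime_pow hp x _ m i hx1 hi0 hik hcom
    rw [← hy] at h1
    have hfix : α (b⁻¹ * α b) = b⁻¹ * α b := by
      apply Subtype.ext
      show y * ((δ b : Q) : H) * y⁻¹ = ((δ b : Q) : H)
      rw [h1.eq]; group
    have h2 : (δ b) ^ p = 1 := fixed_of_delta α p hα b hfix
    have hQq' : IsPGroup q Q := hQq
    obtain ⟨k, hk⟩ := hQq' (δ b)
    have h3 : orderOf (δ b) ∣ Nat.gcd p (q ^ k) :=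
      Nat.dvd_gcd (orderOf_dvd_of_pow_eq_one h2) (orderOf_dvd_of_pow_eq_one hk)
    have h4 : Nat.gcd p (q ^ k) = 1 :=
      Nat.Coprime.pow_right k ((Nat.coprime_primes hp hq).mpr (Ne.symm hqp))
    rw [h4, Nat.dvd_one, orderOf_eq_one_iff] at h3
    rw [h3]; rfl

end FrobSubgroup

section Faithful

variable {G : Type*} [Group G]

/-- If `C_G(O_p(G)) ≤ O_p(G)`, an element acting trivially on `O_p(G)/O_p(G)'` lies in `O_p(G)`. -/
theorem mem_pCore_of_theta_eq_one [Finite G] (p : ℕ) [Fact p.Prime]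
    (hC : Subgroup.centralizer ((pCore p G : Subgroup G) : Set G) ≤ pCore p G)
    (g : G) (hg : S4227.theta (pCore p G) g = 1) : g ∈ pCore p G := by
  have hp : p.Prime := Fact.out
  have hPp : IsPGroup p (pCore p G) := H14.pCore_isPGroup p G
  -- the kernel is a `p`-group
  have hker : IsPGroup p (S4227.theta (pCore p G)).ker := by
    rintro ⟨g, hg⟩
    rw [MonoidHom.mem_ker] at hg
    obtain ⟨a, b, hb, hab⟩ := Nat.exists_eq_pow_mul_and_not_dvd (orderOf_pos g).ne' p hp.ne_one
    refine ⟨a, ?_⟩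
    apply Subtype.ext
    show g ^ p ^ a = 1
    set g' := g ^ p ^ a with hg'
    have hg'1 : S4227.theta (pCore p G) g' = 1 := by rw [hg', map_pow, hg, one_pow]
    have hg'b : g' ^ b = 1 := by
      rw [hg', ← pow_mul, ← hab]; exact pow_orderOf_eq_one g
    set α : MulAut (pCore p G) := MulAut.conjNormal g' with hα
    have hαb : α ^ b = 1 := by rw [hα, ← map_pow, hg'b, map_one]
    have hcop : (orderOf α).Coprime p :=
      Nat.Coprime.coprime_dvd_left (orderOf_dvd_of_pow_eq_one hαb)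
        ((Nat.Prime.coprime_iff_not_dvd hp).mpr hb).symm
    have hfr : ∀ u : pCore p G, α u * u⁻¹ ∈ frattini (pCore p G) := by
      intro u
      apply H3.commutator_le_frattini hPp
      have h1 : S4227.theta (pCore p G) g' (Additive.ofMul (Abelianization.of u)) =
          Additive.ofMul (Abelianization.of u) := by rw [hg'1]; rfl
      rw [S4227.theta_apply] at h1
      have h2 : Abelianization.of (MulAut.conjNormal g' u) = Abelianization.of u := h1
      have h3 : (MulAut.conjNormal g' u)⁻¹ * u ∈ commutator (pCore p G) :=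
        QuotientGroup.eq.mp h2
      have h4 := (inferInstance : (commutator (pCore p G)).Normal).conj_mem _
        ((commutator (pCore p G)).inv_mem h3) (MulAut.conjNormal g' u)
      have e : MulAut.conjNormal g' u * ((MulAut.conjNormal g' u)⁻¹ * u)⁻¹ *
          (MulAut.conjNormal g' u)⁻¹ = α u * u⁻¹ := by rw [hα]; group
      rw [← e]; exact h4
    have hα1 := H76.eq_one_of_trivial_on_frattini_of_coprime hPp α hfr hcop
    have hcen : g' ∈ Subgroup.centralizer ((pCore p G : Subgroup G) : Set G) := by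
      rw [Subgroup.mem_centralizer_iff]
      intro u hu
      have h1 := congrArg (fun f : MulAut (pCore p G) => ((f ⟨u, hu⟩ : pCore p G) : G)) hα1
      simp only [hα, MulAut.conjNormal_apply, MulAut.one_apply] at h1
      calc u * g' = g' * u * g'⁻¹ * g' := by rw [h1]
        _ = g' * u := by group
    have hg'P : g' ∈ pCore p G := hC hcen
    obtain ⟨k, hk⟩ := hPp ⟨g', hg'P⟩
    have hk' : g' ^ p ^ k = 1 := congrArg Subtype.val hk
    have h5 : orderOf g' ∣ Nat.gcd b (p ^ k) :=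
      Nat.dvd_gcd (orderOf_dvd_of_pow_eq_one hg'b) (orderOf_dvd_of_pow_eq_one hk')
    have h6 : Nat.gcd b (p ^ k) = 1 :=
      Nat.Coprime.pow_right k ((Nat.Prime.coprime_iff_not_dvd hp).mpr hb).symm
    rw [h6, Nat.dvd_one, orderOf_eq_one_iff] at h5
    exact h5
  have hle : (S4227.theta (pCore p G)).ker ≤ pCore p G :=
    le_sSup ⟨inferInstance, hker⟩
  exact hle (MonoidHom.mem_ker.mpr hg)

end Faithful

section PLengthExp

variable {Γ : Type*} [Group Γ]

/-- `O_p(G/O_p(G)) = 1`. -/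
theorem pCore_quotient_pCore_bot (p : ℕ) [Fact p.Prime] :
    pCore p (Γ ⧸ pCore p Γ) = ⊥ := by
  rw [eq_bot_iff]
  apply sSup_le
  rintro Nb ⟨hNn, hNp⟩
  have hPp : IsPGroup p (pCore p Γ) := H14.pCore_isPGroup p Γ
  have hcp : IsPGroup p (Nb.comap (QuotientGroup.mk' (pCore p Γ))) := by
    intro g
    obtain ⟨k, hk⟩ := hNp ⟨QuotientGroup.mk' (pCore p Γ) g.1, g.2⟩
    have h1 : (g.1 ^ p ^ k : Γ) ∈ pCore p Γ := by
      rw [← QuotientGroup.eq_one_iff]
      exact congrArg Subtype.val hk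
    obtain ⟨l, hl⟩ := hPp ⟨_, h1⟩
    refine ⟨k + l, ?_⟩
    apply Subtype.ext
    have : (g.1 ^ p ^ k) ^ p ^ l = 1 := congrArg Subtype.val hl
    rw [pow_add, pow_mul]
    exact this
  have hle : Nb.comap (QuotientGroup.mk' (pCore p Γ)) ≤ pCore p Γ :=
    le_sSup ⟨hNn.comap _, hcp⟩
  intro z hz
  obtain ⟨g, rfl⟩ := QuotientGroup.mk'_surjective (pCore p Γ) z
  rw [Subgroup.mem_bot]
  exact (QuotientGroup.eq_one_iff g).mpr (hle hz)

/-- Abelian Sylow subgroups pass to quotients. -/
theorem sylow_comm_of_surjective [Finite Γ] {Γ' : Type*} [Group Γ'] (f : Γ →* Γ')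
    (hf : Function.Surjective f) (q : ℕ) [Fact q.Prime]
    (hab : ∀ Q : Sylow q Γ, IsMulCommutative (Q : Subgroup Γ)) (Q : Sylow q Γ') :
    IsMulCommutative (Q : Subgroup Γ') := by
  obtain ⟨Q₀, rfl⟩ := Sylow.mapSurjective_surjective hf q Q
  haveI := hab Q₀
  refine ⟨⟨fun a b => ?_⟩⟩
  obtain ⟨a, ha⟩ := a
  obtain ⟨b, hb⟩ := b
  rw [Sylow.coe_mapSurjective] at ha hb
  obtain ⟨a₀, ha₀, rfl⟩ := ha
  obtain ⟨b₀, hb₀, rfl⟩ := hb
  apply Subtype.ext
  show f a₀ * f b₀ = f b₀ * f a₀
  rw [← map_mul, ← map_mul, setLike_mul_comm ha₀ hb₀]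

/-- The ordered product `u · u^x · u^(x²) ⋯` of `k` conjugates. -/
noncomputable def conjProd (P : Subgroup Γ) [P.Normal] (x : Γ) (u : P) : ℕ → P
  | 0 => 1
  | k + 1 => conjProd P x u k * MulAut.conjNormal (x ^ k) u

theorem conjProd_val (P : Subgroup Γ) [P.Normal] (x : Γ) (u : P) :
    ∀ k, ((conjProd P x u k : P) : Γ) * x ^ k = ((u : Γ) * x) ^ k
  | 0 => by simp [conjProd]
  | k + 1 => by
    rw [conjProd, Subgroup.coe_mul, MulAut.conjNormal_apply, pow_succ ((u : Γ) * x),
      ← conjProd_val P x u k, pow_succ]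
    group

theorem theta_sum_apply (P : Subgroup Γ) [P.Normal] (x : Γ) (u : P) :
    ∀ k, (∑ i ∈ Finset.range k, S4227.theta P (x ^ i)) (Additive.ofMul (Abelianization.of u)) =
      Additive.ofMul (Abelianization.of (conjProd P x u k))
  | 0 => by
    rw [Finset.sum_range_zero, conjProd, map_one]; rfl
  | k + 1 => by
    rw [Finset.sum_range_succ]
    show (∑ i ∈ Finset.range k, S4227.theta P (x ^ i)) (Additive.ofMul (Abelianization.of u)) +
      S4227.theta P (x ^ k) (Additive.ofMul (Abelianization.of u)) = _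
    rw [theta_sum_apply P x u k, S4227.theta_apply, conjProd, map_mul]; rfl

theorem abelianization_torsion {P : Subgroup Γ} [P.Normal] {p : ℕ} (hPp : IsPGroup p P) (n : ℕ)
    (hn : n.Coprime p) (w : Additive (Abelianization P)) (hw : n • w = 0) : w = 0 := by
  obtain ⟨u, rfl⟩ := S4227.exists_rep P w
  obtain ⟨l, hl⟩ := hPp u
  have h1 : (p ^ l) • Additive.ofMul (Abelianization.of u) = 0 := by
    rw [← ofMul_pow, ← map_pow, hl, map_one]; rfl
  have h2 : addOrderOf (Additive.ofMul (Abelianization.of u)) ∣ Nat.gcd n (p ^ l) :=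
    Nat.dvd_gcd (addOrderOf_dvd_of_nsmul_eq_zero hw) (addOrderOf_dvd_of_nsmul_eq_zero h1)
  have h3 : Nat.gcd n (p ^ l) = 1 := Nat.Coprime.pow_right l hn
  rw [h3, Nat.dvd_one, AddMonoid.addOrderOf_eq_one_iff] at h2
  exact h2

/-- Key step: in a `p`-soluble group with `O_{p'} = 1` and abelian Sylow `q`-subgroups (`q ≠ p`),
a `p`-element `x` with `x^(p^m) ∉ O_p` forces a `p`-element `g` with `g^(p^(m+1)) ≠ 1`. -/
theorem exists_pow_ne_one [Finite Γ] {p : ℕ} [Fact p.Prime]
    (hsol : IsPSolvable p Γ) (hO : pPrimeCore p Γ = ⊥)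
    (hab : ∀ (q : ℕ) [Fact q.Prime], q ≠ p → ∀ Q : Sylow q Γ, IsMulCommutative (Q : Subgroup Γ))
    (x : Γ) (hxp : ∃ j, x ^ p ^ j = 1) (m : ℕ) (hx : x ^ p ^ m ∉ pCore p Γ) :
    ∃ g : Γ, (∃ j, g ^ p ^ j = 1) ∧ g ^ p ^ (m + 1) ≠ 1 := by
  classical
  have hp : p.Prime := Fact.out
  by_contra hcon
  push Not at hcon
  have hPp : IsPGroup p (pCore p Γ) := H14.pCore_isPGroup p Γ
  have hC : Subgroup.centralizer ((pCore p Γ : Subgroup Γ) : Set Γ) ≤ pCore p Γ :=
    H80.centralizer_pCore_le p hsol hO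
  have hcoset : ∀ u : pCore p Γ, ((u : Γ) * x) ^ p ^ (m + 1) = 1 := by
    intro u
    apply hcon
    obtain ⟨j, hj⟩ := hxp
    have h1 : ((u : Γ) * x) ^ p ^ j ∈ pCore p Γ := by
      rw [← QuotientGroup.eq_one_iff, QuotientGroup.mk_pow, QuotientGroup.mk_mul,
        (QuotientGroup.eq_one_iff (u : Γ)).mpr u.2, one_mul, ← QuotientGroup.mk_pow, hj]
      rfl
    obtain ⟨l, hl⟩ := hPp ⟨_, h1⟩
    refine ⟨j + l, ?_⟩
    rw [pow_add, pow_mul]
    exact congrArg Subtype.val hl
  have hx1 : x ^ p ^ (m + 1) = 1 := by simpa using hcoset 1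
  have hπx1 : (QuotientGroup.mk' (pCore p Γ) x) ^ p ^ (m + 1) = 1 := by
    rw [← map_pow, hx1, map_one]
  have hπx2 : (QuotientGroup.mk' (pCore p Γ) x) ^ p ^ m ≠ 1 := by
    rw [← map_pow]
    intro h
    exact hx ((QuotientGroup.eq_one_iff _).mp h)
  have hsolH : IsPSolvable p (Γ ⧸ pCore p Γ) := H80.isPSolvable_quotient p (pCore p Γ) hsol
  have hOpH : pCore p (Γ ⧸ pCore p Γ) = ⊥ := pCore_quotient_pCore_bot p
  have habH : ∀ (q : ℕ) [Fact q.Prime], q ≠ p → ∀ Q : Sylow q (Γ ⧸ pCore p Γ),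
      IsMulCommutative (Q : Subgroup (Γ ⧸ pCore p Γ)) := by
    intro q _ hqp Q
    exact sylow_comm_of_surjective (QuotientGroup.mk' (pCore p Γ))
      (QuotientGroup.mk'_surjective _) q (hab q hqp) Q
  obtain ⟨D, hD1, hDc, hDx, hDfree⟩ := exists_frob_subgroup hsolH hOpH habH
    (QuotientGroup.mk' (pCore p Γ) x) m hπx1 hπx2
  let θb : (Γ ⧸ pCore p Γ) →* AddMonoid.End (Additive (Abelianization (pCore p Γ))) :=
    QuotientGroup.lift (pCore p Γ) (S4227.theta (pCore p Γ))
      (fun g hg => S4227.theta_eq_one_of_mem (pCore p Γ) hg)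
  have hθb : ∀ g : Γ, θb (QuotientGroup.mk' (pCore p Γ) g) = S4227.theta (pCore p Γ) g :=
    fun g => rfl
  have hN : ∑ i ∈ Finset.range (p ^ (m + 1)), θb ((QuotientGroup.mk' (pCore p Γ) x) ^ i) = 0 := by
    have h0 : ∀ i, θb ((QuotientGroup.mk' (pCore p Γ) x) ^ i) = S4227.theta (pCore p Γ) (x ^ i) := by
      intro i; rw [← map_pow, hθb]
    simp only [h0]
    ext z
    obtain ⟨u, rfl⟩ := S4227.exists_rep (pCore p Γ) z
    rw [theta_sum_apply]
    have h1 := conjProd_val (pCore p Γ) x u (p ^ (m + 1))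
    rw [hx1, mul_one, hcoset u] at h1
    have h2 : conjProd (pCore p Γ) x u (p ^ (m + 1)) = 1 := Subtype.ext h1
    rw [h2, map_one]; rfl
  haveI : Fintype D := Fintype.ofFinite D
  have hsum := frob_sum θb D (QuotientGroup.mk' (pCore p Γ) x) (p ^ (m + 1)) (pow_pos hp.pos _)
    hDx hDfree hN
  have hcard : (Fintype.card D).Coprime p := by
    rw [← Nat.card_eq_fintype_card]; exact hDc
  have htriv : ∀ d₀ ∈ D, θb d₀ = 1 := by
    intro d₀ hd₀
    have h1 : θb d₀ * ∑ d : D, θb (d : Γ ⧸ pCore p Γ) = ∑ d : D, θb (d : Γ ⧸ pCore p Γ) := by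
      rw [Finset.mul_sum]
      have h2 := Equiv.sum_comp (Equiv.mulLeft (⟨d₀, hd₀⟩ : D))
        (fun d : D => θb (d : Γ ⧸ pCore p Γ))
      rw [← h2]
      apply Finset.sum_congr rfl
      intro d _
      rw [← map_mul]; rfl
    rw [hsum] at h1
    ext z
    have h2 : (θb d₀ * (Fintype.card D : AddMonoid.End (Additive (Abelianization (pCore p Γ))))) z
        = (Fintype.card D : AddMonoid.End (Additive (Abelianization (pCore p Γ)))) z := by
      rw [h1]
    have h3 : ∀ w : Additive (Abelianization (pCore p Γ)),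
        (Fintype.card D : AddMonoid.End (Additive (Abelianization (pCore p Γ)))) w =
          Fintype.card D • w := by
      intro w; simp
    have h4 : θb d₀ (Fintype.card D • z) = Fintype.card D • z := by
      rw [← h3]; exact h2
    rw [map_nsmul] at h4
    have h5 : Fintype.card D • (θb d₀ z - z) = 0 := by
      rw [nsmul_sub, h4, sub_self]
    have h6 := abelianization_torsion hPp _ hcard _ h5
    show θb d₀ z = z
    exact sub_eq_zero.mp h6
  apply hD1
  rw [eq_bot_iff]
  intro d₀ hd₀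
  obtain ⟨g₀, rfl⟩ := QuotientGroup.mk'_surjective (pCore p Γ) d₀
  have h1 : S4227.theta (pCore p Γ) g₀ = 1 := by rw [← hθb]; exact htriv _ hd₀
  have h2 : g₀ ∈ pCore p Γ := mem_pCore_of_theta_eq_one p hC g₀ h1
  rw [Subgroup.mem_bot]
  exact (QuotientGroup.eq_one_iff g₀).mpr h2

/-- `p`-elements lift along surjections of finite groups. -/
theorem exists_pelement_lift [Finite Γ] {Γ' : Type*} [Group Γ'] (f : Γ →* Γ')
    (hf : Function.Surjective f) (p : ℕ) [Fact p.Prime] (g' : Γ') (hg' : ∃ j, g' ^ p ^ j = 1) :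
    ∃ g : Γ, (∃ j, g ^ p ^ j = 1) ∧ f g = g' := by
  haveI : Finite Γ' := Finite.of_surjective f hf
  obtain ⟨j, hj⟩ := hg'
  have hZ : IsPGroup p (Subgroup.zpowers g') := by
    obtain ⟨k, _, hk⟩ := (Nat.dvd_prime_pow (Fact.out : p.Prime)).mp (orderOf_dvd_of_pow_eq_one hj)
    apply IsPGroup.of_card (n := k)
    rw [Nat.card_zpowers]; exact hk
  obtain ⟨T, hT⟩ := hZ.exists_le_sylow
  obtain ⟨S₀, rfl⟩ := Sylow.mapSurjective_surjective hf p T
  have h1 : g' ∈ ((S₀.mapSurjective hf : Sylow p Γ') : Subgroup Γ') := hT (Subgroup.mem_zpowers g')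
  rw [Sylow.coe_mapSurjective] at h1
  obtain ⟨g, hg, rfl⟩ := h1
  obtain ⟨k, hk⟩ := S₀.isPGroup' ⟨g, hg⟩
  exact ⟨g, ⟨k, congrArg Subtype.val hk⟩, rfl⟩

/-- The upper `p`-series started at `M` reaches the top after `n` steps of `p`-type when the
`p^n`-th powers of all `p`-elements lie in `M` (abelian Sylow `q`-subgroups for `q ≠ p`). -/
theorem relSeries_eq_top_of_exp {G : Type*} [Group G] [Finite G] (p : ℕ) [Fact p.Prime]
    (hsol : IsPSolvable p G)
    (hab : ∀ (q : ℕ) [Fact q.Prime], q ≠ p → ∀ Q : Sylow q G, IsMulCommutative (Q : Subgroup G)) :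
    ∀ (n : ℕ) (M : {H : Subgroup G // H.Normal}),
      (∀ g : G, (∃ j, g ^ p ^ j = 1) → g ^ p ^ n ∈ M.1) →
      (H14.relSeries p G M (2 * n + 1)).1 = ⊤ := by
  intro n
  induction n with
  | zero =>
    intro M hM
    haveI : M.1.Normal := M.2
    rw [H14.relSeries_one]
    obtain ⟨S⟩ : Nonempty (Sylow p G) := inferInstance
    have hS : (S : Subgroup G) ≤ M.1 := by
      intro s hs
      obtain ⟨k, hk⟩ := S.isPGroup' ⟨s, hs⟩
      have := hM s ⟨k, congrArg Subtype.val hk⟩
      simpa using this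
    have hcop : (Nat.card (G ⧸ M.1)).Coprime p := by
      rw [← Subgroup.index_eq_card]
      have h1 : M.1.index ∣ (S : Subgroup G).index := Subgroup.index_dvd_of_le hS
      have h2 : ¬ p ∣ (S : Subgroup G).index := S.not_dvd_index
      have h3 : ¬ p ∣ M.1.index := fun h => h2 (h.trans h1)
      exact ((Nat.Prime.coprime_iff_not_dvd Fact.out).mpr h3).symm
    have htop : pPrimeCore p (G ⧸ M.1) = ⊤ := by
      rw [eq_top_iff]
      apply H14.le_pPrimeCore inferInstance
      rw [Subgroup.card_top]; exact hcop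
    rw [htop, Subgroup.comap_top]
  | succ n ih =>
    intro M hM
    haveI : M.1.Normal := M.2
    haveI : (H14.relSeries p G M 1).1.Normal := (H14.relSeries p G M 1).2
    have hN := H14.relSeries_one p G M
    have hQ := H14.relSeries_two p G M
    have hMN : M.1 ≤ (H14.relSeries p G M 1).1 := by rw [hN]; exact H14.le_comap_mk' _ _
    have hO := H14.pPrimeCore_quotient_eq_bot_of_comap p M.1 (H14.relSeries p G M 1).1 hN
    have hsolq := H80.isPSolvable_quotient p (H14.relSeries p G M 1).1 hsol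
    have habq : ∀ (q : ℕ) [Fact q.Prime], q ≠ p →
        ∀ Q : Sylow q (G ⧸ (H14.relSeries p G M 1).1),
          IsMulCommutative (Q : Subgroup (G ⧸ (H14.relSeries p G M 1).1)) := by
      intro q _ hqp Q
      exact sylow_comm_of_surjective (QuotientGroup.mk' _) (QuotientGroup.mk'_surjective _) q
        (hab q hqp) Q
    have key : ∀ g : G, (∃ j, g ^ p ^ j = 1) → g ^ p ^ n ∈ (H14.relSeries p G M 2).1 := by
      intro g hg
      rw [hQ, Subgroup.mem_comap]
      by_contra hcon
      rw [map_pow] at hcon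
      have hgq : ∃ j, (QuotientGroup.mk' (H14.relSeries p G M 1).1 g) ^ p ^ j = 1 := by
        obtain ⟨j, hj⟩ := hg
        exact ⟨j, by rw [← map_pow, hj, map_one]⟩
      obtain ⟨g', hg'p, hg'⟩ := exists_pow_ne_one hsolq hO habq _ hgq n hcon
      obtain ⟨g₀, hg₀p, rfl⟩ := exists_pelement_lift (QuotientGroup.mk' (H14.relSeries p G M 1).1)
        (QuotientGroup.mk'_surjective _) p g' hg'p
      apply hg'
      rw [← map_pow]
      exact (QuotientGroup.eq_one_iff _).mpr (hMN (hM g₀ hg₀p))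
    have h2 := ih (H14.relSeries p G M 2) key
    have h3 : 2 * (n + 1) + 1 = (2 * n + 1) + 2 := by ring
    rw [h3, H14.relSeries_add_two]
    exact h2

end PLengthExp

end Cfsg.Agent.H66
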