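import Mathlib
import Cfsg.Agent.H10.HO.Defs

/-!
helper66: piece HO-CZ of helper10's project S2075.  Transfer of the bound `|C(m)| ≤ 16` for an
element of order 8 of `SL₅(2)` along an isomorphism `C_G(e) ≃* C_{SL₅(2)}(s)`.
-/

set_option autoImplicit false

namespace Cfsg.Agent.H66.Ho

open Cfsg.Agent.H10.HO

universe u

theorem cz : StCZ.{u} := by
  intro G _ e z s ⟨φ⟩ hz4 he1 he2 hczm
  have hcomm : ∀ g : G, g * z = z * g → g * e = e * g := by
    intro g hg
    have h : Commute g z := hg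
    have h4 : Commute g (z ^ 4) := h.pow_right 4
    rw [hz4] at h4
    exact h4
  have hmemE : ∀ g : G, g * z = z * g → g ∈ Subgroup.centralizer ({e} : Set G) := by
    intro g hg
    rw [Subgroup.mem_centralizer_iff]
    intro h hh
    rw [Set.mem_singleton_iff] at hh
    rw [hh]
    exact (hcomm g hg).symm
  have hze : z ∈ Subgroup.centralizer ({e} : Set G) := hmemE z rfl
  have hm8 : ((φ ⟨z, hze⟩ : ↥(Subgroup.centralizer ({s} : Set SL52))) : SL52) ^ 8 = 1 := by
    have h1 : (⟨z, hze⟩ : ↥(Subgroup.centralizer ({e} : Set G))) ^ 8 = 1 := by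
      apply Subtype.ext
      have h8 : z ^ 8 = 1 := by
        have : z ^ 8 = z ^ 4 * z ^ 4 := by rw [← pow_add]
        rw [this, hz4, he2]
      simpa using h8
    have h2 : (φ ⟨z, hze⟩) ^ 8 = 1 := by rw [← map_pow, h1, map_one]
    have h3 := congrArg (Subtype.val) h2
    simpa using h3
  have hm4 : ((φ ⟨z, hze⟩ : ↥(Subgroup.centralizer ({s} : Set SL52))) : SL52) ^ 4 ≠ 1 := by
    intro h
    have h2 : (φ ⟨z, hze⟩) ^ 4 = 1 := by
      apply Subtype.ext
      simpa using h
    rw [← map_pow] at h2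
    have h3 : (⟨z, hze⟩ : ↥(Subgroup.centralizer ({e} : Set G))) ^ 4 = 1 :=
      (MulEquiv.map_eq_one_iff φ).mp h2
    have h4 := congrArg (Subtype.val) h3
    have h5 : z ^ 4 = 1 := by simpa using h4
    rw [hz4] at h5
    exact he1 h5
  have hbound := hczm _ hm8 hm4
  have hgz : ∀ g : ↥(Subgroup.centralizer ({z} : Set G)), (g : G) * z = z * (g : G) := by
    intro g
    have := Subgroup.mem_centralizer_iff.mp g.2 z (Set.mem_singleton z)
    exact this.symm
  let f : ↥(Subgroup.centralizer ({z} : Set G)) →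
      ↥(Subgroup.centralizer
        ({((φ ⟨z, hze⟩ : ↥(Subgroup.centralizer ({s} : Set SL52))) : SL52)} : Set SL52)) :=
    fun g => ⟨((φ ⟨(g : G), hmemE _ (hgz g)⟩ : ↥(Subgroup.centralizer ({s} : Set SL52))) : SL52),
      by
        rw [Subgroup.mem_centralizer_iff]
        intro h hh
        rw [Set.mem_singleton_iff] at hh
        rw [hh]
        have h1 : (⟨z, hze⟩ : ↥(Subgroup.centralizer ({e} : Set G))) *
            ⟨(g : G), hmemE _ (hgz g)⟩ = ⟨(g : G), hmemE _ (hgz g)⟩ * ⟨z, hze⟩ := by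
          apply Subtype.ext
          exact (hgz g).symm
        have h2 := congrArg φ h1
        rw [map_mul, map_mul] at h2
        have h3 := congrArg (Subtype.val) h2
        simpa using h3⟩
  have hf : Function.Injective f := by
    intro g₁ g₂ h
    have h1 := congrArg (Subtype.val) h
    have h2 : φ ⟨(g₁ : G), hmemE _ (hgz g₁)⟩ = φ ⟨(g₂ : G), hmemE _ (hgz g₂)⟩ :=
      Subtype.ext h1
    have h3 := φ.injective h2
    apply Subtype.ext
    have h4 : ((⟨(g₁ : G), hmemE _ (hgz g₁)⟩ : ↥(Subgroup.centralizer ({e} : Set G))) : G) =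
        ((⟨(g₂ : G), hmemE _ (hgz g₂)⟩ : ↥(Subgroup.centralizer ({e} : Set G))) : G) :=
      congrArg (Subtype.val) h3
    exact h4
  have hfin : Finite ↥(Subgroup.centralizer
      ({((φ ⟨z, hze⟩ : ↥(Subgroup.centralizer ({s} : Set SL52))) : SL52)} : Set SL52)) :=
    inferInstance
  exact (Nat.card_le_card_of_injective f hf).trans hbound

example : StCZ.{u} := cz

end Cfsg.Agent.H66.Ho
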