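import Mathlib
import Cfsg.Agent.H10.HO.Defs

set_option autoImplicit false

/-! HO-OUT2H for helper10's S2075 project (twin of helper20's `Cfsg.Agent.H20.FO.out2`, for the
prime 17 and eighth powers). -/

namespace Cfsg.Agent.H66.Ho

open Subgroup

universe u

theorem eighth_pow_res (k : ℕ) (hk : ¬ 17 ∣ k) : k ^ 8 % 17 = 1 ∨ k ^ 8 % 17 = 16 := by
  rw [Nat.pow_mod]
  have hlt : k % 17 < 17 := Nat.mod_lt _ (by norm_num)
  have hne : k % 17 ≠ 0 := fun h => hk (Nat.dvd_of_mod_eq_zero h)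
  generalize k % 17 = r at hlt hne
  interval_cases r <;> simp_all

theorem out2H : Cfsg.Agent.H10.HO.StOut2H.{u} := by
  intro G _ _ x m hG hm hx17 hx1 hν hinn hθ
  classical
  have hp : Fact (Nat.Prime 17) := ⟨by norm_num⟩
  have hord : orderOf x = 17 := orderOf_eq_prime hx17 hx1
  have hA : ∀ α : MulAut G, ∃ (g : G) (k : ℕ), ¬ 17 ∣ k ∧ g * α x * g⁻¹ = x ^ k := by
    intro α
    have hordα : orderOf (α x) = 17 := by rw [MulEquiv.orderOf_eq, hord]
    have hcard : ∀ y : G, orderOf y = 17 → Nat.card (zpowers y) = 17 := fun y hy => by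
      rw [Nat.card_zpowers, hy]
    have hm0 : m ≠ 0 := by rintro rfl; exact hm (dvd_zero 17)
    have hQcard : ∀ Q : Sylow 17 G, Nat.card (Q : Subgroup G) = 17 := by
      intro Q
      rw [Sylow.card_eq_multiplicity, hG, Nat.factorization_mul (by norm_num) hm0]
      simp [Nat.factorization_eq_zero_of_not_dvd hm,
        (by norm_num : Nat.Prime 17).factorization_self]
    have hsyl : ∀ y : G, orderOf y = 17 → ∃ Q : Sylow 17 G, zpowers y = (Q : Subgroup G) := by
      intro y hy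
      have hPp : IsPGroup 17 (zpowers y) :=
        IsPGroup.of_card (n := 1) (by rw [hcard y hy]; norm_num)
      obtain ⟨Q, hPQ⟩ := hPp.exists_le_sylow
      exact ⟨Q, Subgroup.eq_of_le_of_card_ge hPQ (by rw [hQcard, hcard y hy])⟩
    obtain ⟨Q, hQ⟩ := hsyl x hord
    obtain ⟨Q', hQ'⟩ := hsyl (α x) hordα
    obtain ⟨g, hg⟩ := MulAction.exists_smul_eq G Q' Q
    have hmem : g * α x * g⁻¹ ∈ (Q : Subgroup G) := by
      rw [← hg, Sylow.coe_subgroup_smul]
      have h1 : α x ∈ (Q' : Subgroup G) := hQ' ▸ mem_zpowers _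
      have h2 := Subgroup.smul_mem_pointwise_smul (α x) (MulAut.conj g) (Q' : Subgroup G) h1
      simpa [MulAut.smul_def] using h2
    rw [← hQ, ← mem_powers_iff_mem_zpowers] at hmem
    obtain ⟨k, hk⟩ := hmem
    have hk' : x ^ k = g * α x * g⁻¹ := hk
    refine ⟨g, k, ?_, hk'.symm⟩
    intro h17
    have h1 : x ^ k = 1 := by rw [← hord] at h17; exact orderOf_dvd_iff_pow_eq_one.1 h17
    rw [h1] at hk'
    have h2 : α x = 1 := by
      calc α x = g⁻¹ * (g * α x * g⁻¹) * g := by group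
        _ = 1 := by rw [← hk']; group
    exact hx1 ((MulEquiv.map_eq_one_iff α).1 h2)
  have hB : ∀ (α : MulAut G) (g : G) (k : ℕ), g * α x * g⁻¹ = x ^ k → k ^ 8 % 17 = 1 →
      ∃ h : G, α = MulAut.conj h := by
    intro α g k hgk hk6
    have hk5 : (k ^ 7) ^ 8 % 17 = 1 := by
      have h1 : (k ^ 7) ^ 8 = (k ^ 8) ^ 7 := by ring
      rw [h1, Nat.pow_mod, hk6]
    obtain ⟨ν, hν'⟩ := hν (k ^ 7) hk5
    have hfix : (MulAut.conj ν * MulAut.conj g * α) x = x := by
      simp only [MulAut.mul_apply, MulAut.conj_apply]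
      rw [hgk, ← conj_pow, hν', ← pow_mul]
      have h1 : k ^ 7 * k = k ^ 8 := by ring
      rw [h1, ← pow_mod_orderOf, hord, hk6, pow_one]
    obtain ⟨h, hh⟩ := hinn _ hfix
    refine ⟨(ν * g)⁻¹ * h, ?_⟩
    rw [map_mul, map_inv, ← hh, map_mul]
    group
  have hC : ∀ α β : MulAut G, (∀ g, α ≠ MulAut.conj g) → (∀ g, β ≠ MulAut.conj g) →
      ((α⁻¹ * β : MulAut G) : Cfsg.Out G) = 1 := by
    intro α β hα hβ
    obtain ⟨g, k, hk17, hgk⟩ := hA α
    obtain ⟨h, l, hl17, hhl⟩ := hA β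
    have hk6 : k ^ 8 % 17 = 16 := by
      rcases eighth_pow_res k hk17 with h1 | h1
      · obtain ⟨c, hc⟩ := hB α g k hgk h1
        exact absurd hc (hα c)
      · exact h1
    have hl6 : l ^ 8 % 17 = 16 := by
      rcases eighth_pow_res l hl17 with h1 | h1
      · obtain ⟨c, hc⟩ := hB β h l hhl h1
        exact absurd hc (hβ c)
      · exact h1
    have hα'x : (MulAut.conj g * α) x = x ^ k := by
      simp only [MulAut.mul_apply, MulAut.conj_apply]; exact hgk
    have hβ'x : (MulAut.conj h * β) x = x ^ l := by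
      simp only [MulAut.mul_apply, MulAut.conj_apply]; exact hhl
    have hinv : (MulAut.conj g * α)⁻¹ x = x ^ (k ^ 15) := by
      have h1 : (MulAut.conj g * α) (x ^ (k ^ 15)) = x := by
        rw [map_pow, hα'x, ← pow_mul]
        have h2 : k * k ^ 15 = (k ^ 8) ^ 2 := by ring
        rw [h2, ← pow_mod_orderOf, hord, Nat.pow_mod, hk6]
        norm_num
      calc (MulAut.conj g * α)⁻¹ x
          = (MulAut.conj g * α)⁻¹ ((MulAut.conj g * α) (x ^ (k ^ 15))) := by rw [h1]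
        _ = x ^ (k ^ 15) := MulAut.inv_apply_self _ _ _
    have hγ : (1 : G) * ((MulAut.conj g * α)⁻¹ * (MulAut.conj h * β)) x * (1 : G)⁻¹ =
        x ^ (k ^ 15 * l) := by
      rw [one_mul, inv_one, mul_one, MulAut.mul_apply, hβ'x, map_pow, hinv, ← pow_mul]
    have h6 : (k ^ 15 * l) ^ 8 % 17 = 1 := by
      have h1 : (k ^ 15 * l) ^ 8 = (k ^ 8) ^ 15 * l ^ 8 := by ring
      rw [h1, Nat.mul_mod, Nat.pow_mod, hk6, hl6]
    obtain ⟨c, hc⟩ := hB _ 1 _ hγ h6
    have h1 : ((((MulAut.conj g * α)⁻¹ * (MulAut.conj h * β) : MulAut G)) : Cfsg.Out G) = 1 :=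
      (QuotientGroup.eq_one_iff _).2 ⟨c, hc.symm⟩
    have hg1 : ((MulAut.conj g : MulAut G) : Cfsg.Out G) = 1 :=
      (QuotientGroup.eq_one_iff _).2 ⟨g, rfl⟩
    have hh1 : ((MulAut.conj h : MulAut G) : Cfsg.Out G) = 1 :=
      (QuotientGroup.eq_one_iff _).2 ⟨h, rfl⟩
    simp only [QuotientGroup.mk_mul, QuotientGroup.mk_inv, hg1, hh1, one_mul] at h1
    simpa only [QuotientGroup.mk_mul, QuotientGroup.mk_inv] using h1
  obtain ⟨θ, hθ⟩ := hθ
  rw [Nat.card_eq_two_iff]
  refine ⟨1, ((θ : MulAut G) : Cfsg.Out G), ?_, ?_⟩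
  · intro h
    have h1 : (θ : MulAut G) ∈ Cfsg.Inn G := (QuotientGroup.eq_one_iff θ).1 h.symm
    obtain ⟨g, hg⟩ := h1
    exact hθ g hg.symm
  · ext q
    simp only [Set.mem_insert_iff, Set.mem_singleton_iff, Set.mem_univ, iff_true]
    induction q using QuotientGroup.induction_on with
    | H α =>
      by_cases hα : ∃ g, α = MulAut.conj g
      · left
        obtain ⟨g, rfl⟩ := hα
        exact (QuotientGroup.eq_one_iff _).2 ⟨g, rfl⟩
      · right
        push Not at hα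
        have h1 := hC θ α hθ hα
        rw [QuotientGroup.mk_mul, QuotientGroup.mk_inv, inv_mul_eq_one] at h1
        exact h1.symm

example : Cfsg.Agent.H10.HO.StOut2H.{u} := out2H

end Cfsg.Agent.H66.Ho
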