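import Mathlib
import Cfsg.Agent.H10.HO.Defs

/-!
helper66: piece HO-THETA of helper10's project S2075.  The diagram symmetry `f ↔ g` of the presented
`He` is an automorphism as soon as the image of the last relator holds.
-/

set_option autoImplicit false
set_option linter.style.haveILetI false
set_option linter.unusedVariables false
set_option linter.unusedSimpArgs false

namespace Cfsg.Agent.H66.Ho

open Cfsg.Spor Cfsg.Agent.H35 Cfsg.Agent.H10.HO

theorem sw_sw (x : He.Gen) : sw (sw x) = x := by cases x <;> rfl

theorem coxLabel_sw (x y : He.Gen) :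
    coxLabel He.edges (sw x) (sw y) = coxLabel He.edges x y := by
  cases x <;> cases y <;> decide

theorem theta : Cfsg.Agent.H10.HO.StTheta := by
  intro p0
  have hsat : CoxSat He.edges He.extra (fun x => he_gen (sw x)) := by
    constructor
    · intro x y
      have := he_sat.1 (sw x) (sw y)
      rw [coxLabel_sw] at this
      exact this
    · intro r hr
      have q0 := he_sat.2 (He.e * ((He.f * He.g) ^ 2)⁻¹) (by delta He.extra; simp)
      have q1 := he_sat.2 (He.e * ((He.a * He.b * He.c) ^ 3)⁻¹) (by delta He.extra; simp)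
      have q2 := he_sat.2 (He.a * ((He.c * He.d) ^ 5)⁻¹) (by delta He.extra; simp)
      have hf := he_inv He.Gen.f
      have hg := he_inv He.Gen.g
      have he := he_inv He.Gen.e
      delta He.extra at hr
      simp only [List.mem_cons, List.not_mem_nil, or_false] at hr
      simp only [uw_eq, List.map, List.prod_cons, List.prod_nil, mul_one] at p0
      simp only [map_mul, map_pow, map_inv, FreeGroup.lift_apply_of] at q0 q1 q2
      rcases hr with rfl | rfl | rfl | rfl
      · simp only [map_mul, map_pow, map_inv, FreeGroup.lift_apply_of, sw]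
        -- `e = (f g)^2`, so `(g f)^2 = e⁻¹ = e`
        have h1 : he_gen He.Gen.e = (he_gen He.Gen.f * he_gen He.Gen.g) ^ 2 :=
          mul_inv_eq_one.mp q0
        have hfi : (he_gen He.Gen.f)⁻¹ = he_gen He.Gen.f := inv_eq_of_mul_eq_one_left hf
        have hgi : (he_gen He.Gen.g)⁻¹ = he_gen He.Gen.g := inv_eq_of_mul_eq_one_left hg
        have hei : (he_gen He.Gen.e)⁻¹ = he_gen He.Gen.e := inv_eq_of_mul_eq_one_left he
        have h2 : (he_gen He.Gen.g * he_gen He.Gen.f) ^ 2 = he_gen He.Gen.e := by
          have h3 : he_gen He.Gen.g * he_gen He.Gen.f =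
              (he_gen He.Gen.f * he_gen He.Gen.g)⁻¹ := by
            rw [mul_inv_rev, hfi, hgi]
          rw [h3, inv_pow, ← h1, hei]
        rw [h2, mul_inv_cancel]
      · simpa only [map_mul, map_pow, map_inv, FreeGroup.lift_apply_of, sw] using q1
      · simpa only [map_mul, map_pow, map_inv, FreeGroup.lift_apply_of, sw] using q2
      · simpa only [map_mul, map_pow, FreeGroup.lift_apply_of, mul_assoc, sw] using p0
  obtain ⟨φ, hφ⟩ := cox_UP He.edges He.extra (fun x => he_gen (sw x)) hsat
  have hφ' : ∀ x, φ (he_gen x) = he_gen (sw x) := hφ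
  have hcomp : φ.comp φ = MonoidHom.id He := by
    apply PresentedGroup.ext
    intro x
    have h1 : φ (φ (he_gen x)) = he_gen x := by rw [hφ', hφ', sw_sw]
    exact h1
  exact ⟨MonoidHom.toMulEquiv φ φ hcomp hcomp, fun x => hφ' x⟩

example : Cfsg.Agent.H10.HO.StTheta := theta

end Cfsg.Agent.H66.Ho
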