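import Mathlib
import Cfsg.Agent.H64.JzDefs
import Cfsg.Agent.S2950
import Cfsg.Agent.S2952
import Cfsg.Agent.H59.PushKill2
import Cfsg.Agent.H97.JyPFacts
import Cfsg.Agent.H31.X.CharP2
import Cfsg.Agent.Helper55.J48
import Cfsg.Agent.H54.UqO2SN

/-! JX-PSIDE (project JY-KILL2 = S2953, helper52): the P-side input of the KB glue.
For a `Base S M T K L`, with `D := O₂(K ⊔ T)`: `|T : D| ≤ 2` (elementwise), `T ∖ D` inverts
`K` modulo `D`, and `K` has an element of order 3 outside `M`. -/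

set_option autoImplicit false
open Cfsg

namespace Cfsg.Agent.H66.Jx

open Cfsg.Agent.H64.Jz

universe u

/-- the P-side facts, in the exact shape of helper52's `StPSide` (post 11203) -/
theorem pside_explicit {G : Type u} [Group G] [Finite G] (S : Sylow 2 G) (M T K L : Subgroup G)
    (hB : Base S M T K L) :
    (∀ a ∈ T, ∀ b ∈ T, a ∉ pCoreOf 2 (K ⊔ T) → b ∉ pCoreOf 2 (K ⊔ T) →
      a * b ∈ pCoreOf 2 (K ⊔ T)) ∧
    (∀ x ∈ T, x ∉ pCoreOf 2 (K ⊔ T) → ∀ g ∈ K, x * g * x⁻¹ * g ∈ pCoreOf 2 (K ⊔ T)) ∧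
    ∃ k ∈ K, k ^ 3 = 1 ∧ k ∉ M := by
  have : Fact (Nat.Prime 2) := ⟨Nat.prime_two⟩
  obtain ⟨⟨hc2, hsolv, hZ⟩, hO, hM, hMJ, hT, hTS, hK, hLmax, hKL⟩ := hB
  obtain ⟨L₀, hL₀max, hKL₀, huniq, hsub₀, hSyl₀⟩ :=
    Cfsg.Agent.S2950.result hc2 hsolv hZ hO S M hM hMJ T hT K hK
  have hLL₀ : L = L₀ := huniq L hLmax hKL
  subst hLL₀
  have hT2 : IsPGroup 2 ↥T := hT.1.1
  have hTM : T ≤ M := hT.1.2.2.1
  have hKnM : ¬ K ≤ M := hK.2.1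
  have hKleL : K ≤ L := le_sup_left.trans hKL
  have hKc : IsJComponent T K := hK.1.1
  obtain ⟨hgen, hKJ, hO3, -, -, -⟩ := hKc
  have hKn : (K.subgroupOf (K ⊔ T)).Normal :=
    Cfsg.Agent.S2952.result hc2 hsolv hZ hO S M hM hMJ T hT K hK
  have hPK : K ⊔ T ≤ Subgroup.normalizer (K : Set G) :=
    (Subgroup.normal_subgroupOf_iff_le_normalizer le_sup_left).mp hKn
  have hTK : T ≤ Subgroup.normalizer (K : Set G) := le_sup_right.trans hPK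
  have hQLT : pCoreOf 2 L ≤ T := Cfsg.Agent.Helper55.J48.pCoreOf_le_of_sylowIn hSyl₀
  have hOK : pCoreOf 2 K ≤ K := Cfsg.Agent.H31.X.H54.pCoreOf_le K
  have hOT : pCoreOf 2 K ≤ T := (Cfsg.Agent.H54.Uq.o2sn K L hKleL hsub₀).trans hQLT
  have hOnK : K ≤ Subgroup.normalizer (pCoreOf 2 K : Set G) :=
    Cfsg.Agent.H31.X.H54.le_normalizer_pCoreOf K
  have hOnT : T ≤ Subgroup.normalizer (pCoreOf 2 K : Set G) :=
    hTK.trans (Cfsg.Agent.H31.X.H54.normalizer_le_normalizer_pCoreOf K)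
  obtain ⟨D, k, hDT, hOD, hKD, hTD, hidx, hinv, -, -, hkK, -, hk3, hKO, -⟩ :=
    Cfsg.Agent.H97.Jy.pfacts K T (pCoreOf 2 K) hT2 hTK hOK hOT hO3 hOnK hOnT hgen
  have hDQ : D ≤ pCoreOf 2 (K ⊔ T) :=
    Cfsg.Agent.H31.X.H54.le_pCoreOf (hDT.trans le_sup_right) (sup_le hKD hTD) (hT2.to_le hDT)
  refine ⟨fun a ha b hb haQ hbQ =>
      hDQ (hidx a ha b hb (fun h => haQ (hDQ h)) (fun h => hbQ (hDQ h))),
    fun x hx hxQ g hg => hDQ (hOD (hinv x hx (fun h => hxQ (hDQ h)) g hg)),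
    k, hkK, hk3, ?_⟩
  intro hkM
  apply hKnM
  intro g hg
  obtain ⟨o, ho, i, rfl⟩ := hKO g hg
  exact mul_mem (hTM (hOT ho)) (pow_mem hkM i)

end Cfsg.Agent.H66.Jx

namespace Cfsg.Agent.H66.Jx

open Cfsg.Agent.H64.Jz

universe u

/-- helper52's `StPSide` (post 11203), stated inline verbatim -/
def StPSideY : Prop := ∀ {G : Type u} [Group G] [Finite G] (S : Sylow 2 G) (M T K L : Subgroup G),
  Cfsg.Agent.H64.Jz.Base S M T K L →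
  (∀ a ∈ T, ∀ b ∈ T, a ∉ pCoreOf 2 (K ⊔ T) → b ∉ pCoreOf 2 (K ⊔ T) →
    a * b ∈ pCoreOf 2 (K ⊔ T)) ∧
  (∀ x ∈ T, x ∉ pCoreOf 2 (K ⊔ T) → ∀ g ∈ K, x * g * x⁻¹ * g ∈ pCoreOf 2 (K ⊔ T)) ∧
  ∃ k ∈ K, k ^ 3 = 1 ∧ k ∉ M

theorem pside : StPSideY.{u} := by
  intro G _ _ S M T K L hB
  exact pside_explicit S M T K L hB

example : StPSideY.{u} := pside

end Cfsg.Agent.H66.Jx
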