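import Cfsg.Agent.H66.SpDefs
import Cfsg.Agent.H52.SoAsm

/-!
# S2944: assembly of the pieces
-/

set_option autoImplicit false
open Cfsg

namespace Cfsg.Agent.H66.Sp

open Cfsg.Agent.H52.Sn
open scoped commutatorElement

universe u

/-- `IsJComponent` sees `T` only through its Thompson subgroup. -/
theorem isJComponent_congr {G : Type u} [Group G] {T₁ T₂ K : Subgroup G}
    (h : thompsonSubgroupOf 2 T₁ = thompsonSubgroupOf 2 T₂) (hK : IsJComponent T₁ K) :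
    IsJComponent T₂ K := by
  unfold IsJComponent at hK ⊢
  rw [← h]
  exact hK

/-- If `K ∩ N` is normal in `↥N` and `K ≤ N`, then `N` normalizes `K`. -/
theorem le_normalizer_of_subgroupOf_normal {G : Type u} [Group G] (K N : Subgroup G)
    (hKN : K ≤ N) (h : (K.subgroupOf N).Normal) : N ≤ Subgroup.normalizer (K : Set G) := by
  have key : ∀ n ∈ N, ∀ k ∈ K, n * k * n⁻¹ ∈ K := by
    intro n hn k hk
    have h1 : (⟨k, hKN hk⟩ : ↥N) ∈ K.subgroupOf N := Subgroup.mem_subgroupOf.mpr hk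
    have h2 := h.conj_mem _ h1 ⟨n, hn⟩
    exact Subgroup.mem_subgroupOf.mp h2
  intro n hn
  rw [Subgroup.mem_normalizer_iff]
  intro k
  constructor
  · exact key n hn k
  · intro hk
    have h3 := key n⁻¹ (N.inv_mem hn) _ hk
    have e : n⁻¹ * (n * k * n⁻¹) * n⁻¹⁻¹ = k := by group
    rwa [e] at h3

/-- An element of the normalizer fixes the subgroup under conjugation. -/
theorem map_conj_eq_of_mem_normalizer {G : Type u} [Group G] (K : Subgroup G) (m : G)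
    (hm : m ∈ Subgroup.normalizer (K : Set G)) : K.map (MulAut.conj m).toMonoidHom = K := by
  ext x
  constructor
  · rintro ⟨k, hk, rfl⟩
    exact (Subgroup.mem_normalizer_iff.mp hm k).mp hk
  · intro hx
    refine ⟨m⁻¹ * x * m, ?_, ?_⟩
    · have h1 := (Subgroup.mem_normalizer_iff.mp (Subgroup.inv_mem _ hm) x).mp hx
      rwa [inv_inv] at h1
    · show m * (m⁻¹ * x * m) * m⁻¹ = x
      group

/-- S2944 from the pieces. -/
theorem main3 (hGL : StGL.{u}) (hRed : StRed.{u}) (hA : StFinA.{u}) (hB : StFinB.{u})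
    (hSyl : StIfSyl.{u}) (hV : StIfV.{u}) (hZ : StIfZ.{u}) (hS : StIfS.{u}) (hK : StIfK.{u})
    (hN : StIfN.{u}) (hNC : StNC.{u}) (hWid : StWid.{u})
    (hConjG : StConjG.{u}) (hBasic : StBasic.{u}) (hSy : StSyl.{u}) (hLF : StLFam.{u})
    (hKCN : StKCN.{u}) (hKQN : StKQN.{u}) (hKN : StKN.{u}) (hOddQ : StOddQ.{u})
    (hJEq : StJEq.{u}) : StMain3.{u} := by
  intro G _ _ hL hNsol hZN T hT hT1 K hK0
  obtain ⟨hKc, hK0'⟩ := hK0
  obtain ⟨hKW, hJK, hNKW, hW2, hW1, hJ1⟩ := hBasic T K hKc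
  obtain ⟨N, hNdef⟩ : ∃ N : Subgroup G, N = Subgroup.normalizer (wOf K : Set G) := ⟨_, rfl⟩
  rw [← hNdef] at hKW hNKW hK0'
  rw [← hNdef]
  have hJN : thompsonSubgroupOf 2 T ≤ N := hJK.trans hNKW
  have hJT : thompsonSubgroupOf 2 T ≤ T := Subgroup.map_subtype_le _
  have hJ2 : IsPGroup 2 ↥(thompsonSubgroupOf 2 T) := hT.to_le hJT
  obtain ⟨S, hJS, hSsyl⟩ := hSy (thompsonSubgroupOf 2 T) N hJ2 hJN
  have hJeq : thompsonSubgroupOf 2 S = thompsonSubgroupOf 2 T := hK0' S hJS hSsyl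
  have hKcS : IsJComponent S K := isJComponent_congr hJeq.symm hKc
  have hLS : N ∈ jOvergroups S := by
    have h1 := hLF hL S K hKcS (hNdef ▸ hSsyl)
    rw [← hNdef] at h1
    exact h1
  have hS2 : IsPGroup 2 ↥S := hSsyl.2.1
  have hS1 : S ≠ ⊥ := by
    intro h
    apply hJ1
    rw [eq_bot_iff, ← h]
    exact hJS
  -- the facts inside `↥N`
  have F := facts hGL hRed hSyl hV hZ hS hK hN hL hNsol hZN S hS2 hS1 N hLS K hKcS hKW
  have hO1 := (hA _ _ _ _ _ _ _ F.hT F.hTi F.hC F.hQ F.hM F.hTC F.hJM F.hcomm F.hKgen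
    F.hKJ F.hOK F.hO).1
  have hnc := hNC _ _ _ _ _ _ _ F
  have hw := hWid S N K _ hKcS hKW F hO1 hnc
  have hKC := hB _ _ _ _ _ _ F.hC F.hQ F.hTC F.hCT F.hJT F.hKJ F.hOK hO1 F.hO3
  obtain ⟨hT2, hTi, -, -⟩ := hSyl S N hLS.1
  obtain ⟨hVn, hVel, hQV⟩ := hV N
  have hCT := hZ hZN S N hLS
  have hPS := hS hNsol S N hS1 hLS
  obtain ⟨hred1, hred2⟩ := hRed (S.subgroupOf N)
    ((omegaCenterOf (pCoreOf 2 N)).subgroupOf N) hT2 hTi hQV hCT
  have hodd := hOddQ ((omegaCenterOf (pCoreOf 2 N)).subgroupOf N) (S.subgroupOf N)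
    hVel hPS hred1 hT2 hTi hQV hred2 hCT
  -- `[V, K]` has order 4 and is normal in `↥N`
  have hcard : Nat.card ↥⁅(omegaCenterOf (pCoreOf 2 N)).subgroupOf N, K.subgroupOf N⁆ = 4 := by
    rw [← hKc.2.2.2.2.1, ← hw]
    exact Nat.card_congr (Subgroup.equivMapOfInjective _ _
      (Subgroup.subtype_injective N)).toEquiv
  have hWn : (⁅(omegaCenterOf (pCoreOf 2 N)).subgroupOf N, K.subgroupOf N⁆).Normal := by
    constructor
    intro x hx n
    have h1 : (x : G) ∈ wOf K := by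
      rw [← hw]
      exact ⟨x, hx, rfl⟩
    have hn : (n : G) ∈ Subgroup.normalizer (wOf K : Set G) := by
      rw [← hNdef]
      exact n.2
    have h2 : (n : G) * (x : G) * (n : G)⁻¹ ∈ wOf K :=
      (Subgroup.mem_normalizer_iff.mp hn _).mp h1
    rw [← hw] at h2
    obtain ⟨y, hy, hye⟩ := h2
    have e : y = n * x * n⁻¹ := Subtype.ext hye
    rw [← e]
    exact hy
  have hkcn := hKCN _ _ _ _ _ _ _ hVel F hO1 hcard hWn
  have hCJ : ⁅Subgroup.centralizer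
      (((omegaCenterOf (pCoreOf 2 N)).subgroupOf N : Subgroup ↥N) : Set ↥N),
      (thompsonSubgroupOf 2 S).subgroupOf N⁆ ≤ pCore 2 ↥N := by
    rw [Subgroup.commutator_le]
    intro c hc j hj
    apply F.hTC
    constructor
    · have h1 : c * j * c⁻¹ ∈ S.subgroupOf N :=
        (Subgroup.mem_normalizer_iff.mp (F.hCT hc) j).mp (F.hJT hj)
      exact Subgroup.mul_mem _ h1 (Subgroup.inv_mem _ (F.hJT hj))
    · have h2 := F.hC.conj_mem _ (Subgroup.inv_mem _ hc) j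
      have e : ⁅c, j⁆ = c * (j * c⁻¹ * j⁻¹) := by
        rw [commutatorElement_def]; group
      rw [e]
      exact Subgroup.mul_mem _ hc h2
  have hkqn := hKQN _ _ _ _ _ _ F.hC F.hQ F.hM F.hQ2 F.hQC hCJ F.hJM hodd F.hKgen F.hKJ F.hOK hO1
    F.hO3 hnc hKC hkcn
  have hKnorm := hKN _ _ F.hQ F.hQ2 F.hQK F.hKgen hkqn
  have hNK : N ≤ Subgroup.normalizer (K : Set G) :=
    le_normalizer_of_subgroupOf_normal K N hKW hKnorm
  refine ⟨le_antisymm hNKW hNK, ?_⟩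
  intro g hg
  obtain ⟨m, hmN, hm⟩ := hJEq T S N g hT hSsyl hJeq hg
  have h1 := (hConjG T K m).2.2 hKc
  rw [map_conj_eq_of_mem_normalizer K m (hNK hmN)] at h1
  exact isJComponent_congr hm.symm h1

end Cfsg.Agent.H66.Sp
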