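import Cfsg.Agent.H74.TsDefs
import Cfsg.Agent.Helper55.J48

/-!
# S2948 from the existence statement EX alone

helper55's `Cfsg.Agent.Helper55.J48.elem` already gives the elementary part of S2948
(the pieces NJ, EQ, OV, SYL together); with EX it yields the whole statement.
-/

set_option autoImplicit false
open Cfsg

namespace Cfsg.Agent.H66.Ts

open Cfsg.Agent.H74.Ts

universe u

/-- S2948 from EX (no NJ / EQ / OV / SYL pieces needed). -/
theorem main4_of_ex (hEx : StEx.{u}) : StMain4.{u} := by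
  intro G _ _ hL hN hZ _ S M _ hMJ T hT L hL2 hLM T₀ hT₀ hJ
  obtain ⟨h1, h2, h3, h4⟩ := Cfsg.Agent.Helper55.J48.elem hL S M hMJ T hT L hL2 hLM T₀ hT₀ hJ
  exact ⟨h1, h2, h3, fun hTL => ⟨h4 hTL, hEx hL hN hZ T hT.1.1 hT.1.2.1 L (h4 hTL)⟩⟩

example (hEx : StEx.{u}) : StMain4.{u} := main4_of_ex hEx

end Cfsg.Agent.H66.Ts
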